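import Groth.Agent.Localalg.LCBasic
import Groth.Prelude.Def_GrLC

/-!
# Local cohomology from an acyclic resolution (ungraded)
-/

set_option autoImplicit false
set_option linter.unusedSectionVars false
set_option linter.style.haveILetI false
universe u

open Groth.Agent.Localalg

namespace K759.Acyc

variable {R : Type u} [CommRing R] (I : Ideal R)

/-- Cocycles of `Γ_I(X)`. -/
def cocyc (X : ℕ → Type u) [∀ n, AddCommGroup (X n)] [∀ n, Module R (X n)]
    (d : ∀ n, X n →ₗ[R] X (n + 1)) (i : ℕ) : Submodule R (X i) :=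
  GrLC.gam I (X i) ⊓ LinearMap.ker (d i)

/-- Coboundaries of `Γ_I(X)`. -/
def cobdy (X : ℕ → Type u) [∀ n, AddCommGroup (X n)] [∀ n, Module R (X n)]
    (d : ∀ n, X n →ₗ[R] X (n + 1)) : (i : ℕ) → Submodule R (X i)
  | 0 => ⊥
  | n + 1 => (GrLC.gam I (X n)).map (d n)

section

variable {M : Type u} [AddCommGroup M] [Module R M]

lemma gam_eq : LCBasic.powTors I M = GrLC.gam I M := rfl

/-- `H⁰` and the torsion submodule. -/
noncomputable def H0e : LocCoh.H I 0 M ≃ₗ[R] GrLC.gam I M := LCBasic.H0equiv I M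

lemma H0e_natural {N : Type u} [AddCommGroup N] [Module R N] (f : M →ₗ[R] N)
    (x : LocCoh.H I 0 M) : (H0e I (LCBasic.Hmap I 0 f x) : N) = f (H0e I x) :=
  LCBasic.H0equiv_natural I f x

end

/-- The degree one part. -/
theorem one {M X₀ X₁ : Type u} [AddCommGroup M] [Module R M] [AddCommGroup X₀]
    [Module R X₀] [AddCommGroup X₁] [Module R X₁] (ε : M →ₗ[R] X₀) (d : X₀ →ₗ[R] X₁)
    (Z : Submodule R X₁) (hε : Function.Injective ε) (hd : LinearMap.ker d = LinearMap.range ε)
    (hZ : LinearMap.range d = Z) (h : Subsingleton (LocCoh.H I 1 X₀)) :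
    Nonempty ((↥(GrLC.gam I X₁ ⊓ Z) ⧸
      ((GrLC.gam I X₀).map d).comap (GrLC.gam I X₁ ⊓ Z).subtype) ≃ₗ[R] LocCoh.H I 1 M) := by
  have hdZ : ∀ x, d x ∈ Z := fun x => hZ ▸ ⟨x, rfl⟩
  let g : X₀ →ₗ[R] Z := d.codRestrict Z hdZ
  have hg : Function.Surjective g := by
    rintro ⟨z, hz⟩
    rw [← hZ] at hz
    obtain ⟨x, rfl⟩ := hz
    exact ⟨x, rfl⟩
  have hex : Function.Exact ε g := by
    intro x
    change g x = 0 ↔ x ∈ LinearMap.range ε
    rw [← hd, LinearMap.mem_ker]
    exact ⟨fun h => congrArg Subtype.val h, fun h => Subtype.ext h⟩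
  -- the map from cocycles
  let j : ↥(GrLC.gam I X₁ ⊓ Z) →ₗ[R] GrLC.gam I Z :=
    LinearMap.codRestrict (GrLC.gam I Z)
      (Submodule.inclusion (inf_le_right : GrLC.gam I X₁ ⊓ Z ≤ Z)) (fun z => by
        obtain ⟨n, hn⟩ := z.2.1
        exact ⟨n, fun r hr => Subtype.ext (hn r hr)⟩)
  have hj : Function.Surjective j := by
    rintro ⟨⟨z, hz⟩, n, hn⟩
    exact ⟨⟨z, ⟨n, fun r hr => congrArg Subtype.val (hn r hr)⟩, hz⟩, rfl⟩
  let φ : ↥(GrLC.gam I X₁ ⊓ Z) →ₗ[R] LocCoh.H I 1 M :=
    LCBasic.δ I ε g hε hg hex 0 ∘ₗ (H0e I).symm.toLinearMap ∘ₗ j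
  have hφ : Function.Surjective φ := by
    have h1 : Function.Surjective (LCBasic.δ I ε g hε hg hex 0) := by
      intro y
      refine ((LCBasic.exact₁ I ε g hε hg hex 0) y).1 (Subsingleton.elim _ _)
    exact h1.comp ((H0e I).symm.surjective.comp hj)
  have hker : LinearMap.ker φ =
      ((GrLC.gam I X₀).map d).comap (GrLC.gam I X₁ ⊓ Z).subtype := by
    ext z
    rw [LinearMap.mem_ker, Submodule.mem_comap]
    change LCBasic.δ I ε g hε hg hex 0 ((H0e I).symm (j z)) = 0 ↔ _
    rw [(LCBasic.exact₃ I ε g hε hg hex 0) _]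
    constructor
    · rintro ⟨y, hy⟩
      refine ⟨H0e I y, (H0e I y).2, ?_⟩
      have h2 := H0e_natural I g y
      rw [hy, LinearEquiv.apply_symm_apply] at h2
      exact (congrArg Subtype.val h2).symm
    · rintro ⟨y, hy, hyz⟩
      refine ⟨(H0e I).symm ⟨y, hy⟩, ?_⟩
      apply (H0e I).injective
      apply Subtype.ext
      apply Subtype.ext
      rw [H0e_natural, LinearEquiv.apply_symm_apply, LinearEquiv.apply_symm_apply]
      exact hyz
  exact ⟨(Submodule.quotEquivOfEq _ _ hker.symm).trans (φ.quotKerEquivOfSurjective hφ)⟩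

/-- Acyclic resolutions compute local cohomology. -/
theorem main (i : ℕ) : ∀ {M : Type u} [AddCommGroup M] [Module R M] (X : ℕ → Type u)
    [∀ n, AddCommGroup (X n)] [∀ n, Module R (X n)] (d : ∀ n, X n →ₗ[R] X (n + 1))
    (ε : M →ₗ[R] X 0) (_ : Function.Injective ε)
    (_ : LinearMap.ker (d 0) = LinearMap.range ε)
    (_ : ∀ n, LinearMap.ker (d (n + 1)) = LinearMap.range (d n))
    (_ : ∀ n j, Subsingleton (LocCoh.H I (j + 1) (X n))),
    Nonempty ((↥(cocyc I X d i) ⧸ (cobdy I X d i).comap (cocyc I X d i).subtype) ≃ₗ[R]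
      LocCoh.H I i M) := by
  induction i with
  | zero =>
    intro M _ _ X _ _ d ε hε h0 _ _
    have hmem : ∀ m : GrLC.gam I M, ε m ∈ cocyc I X d 0 := by
      rintro ⟨m, n, hn⟩
      refine ⟨⟨n, fun r hr => by rw [← map_smul, hn r hr, map_zero]⟩, ?_⟩
      change ε m ∈ LinearMap.ker (d 0)
      rw [h0]; exact ⟨m, rfl⟩
    let φ : GrLC.gam I M →ₗ[R] ↥(cocyc I X d 0) :=
      LinearMap.codRestrict _ (ε ∘ₗ (GrLC.gam I M).subtype) hmem
    have hφ : Function.Bijective φ := by
      constructor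
      · intro x y hxy
        exact Subtype.ext (hε (congrArg Subtype.val hxy))
      · rintro ⟨z, ⟨n, hn⟩, hz⟩
        change z ∈ LinearMap.ker (d 0) at hz
        rw [h0] at hz
        obtain ⟨m, rfl⟩ := hz
        exact ⟨⟨m, n, fun r hr => hε (by rw [map_smul, hn r hr, map_zero])⟩, rfl⟩
    have hbot : (cobdy I X d 0).comap (cocyc I X d 0).subtype = ⊥ := by
      change (⊥ : Submodule R (X 0)).comap _ = ⊥
      rw [Submodule.comap_bot, Submodule.ker_subtype]
    exact ⟨(Submodule.quotEquivOfEqBot _ hbot).trans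
      ((LinearEquiv.ofBijective φ hφ).symm.trans (H0e I).symm)⟩
  | succ i ih =>
    intro M _ _ X _ _ d ε hε h0 h1 hac
    rcases i with _ | i
    · exact one I ε (d 0) (LinearMap.ker (d 1)) hε h0 (h1 0).symm (hac 0 0)
    · have hdZ : ∀ x, d 0 x ∈ LinearMap.ker (d 1) := fun x => by rw [h1 0]; exact ⟨x, rfl⟩
      let g : X 0 →ₗ[R] LinearMap.ker (d 1) := (d 0).codRestrict _ hdZ
      have hg : Function.Surjective g := by
        rintro ⟨z, hz⟩
        rw [h1 0] at hz
        obtain ⟨x, rfl⟩ := hz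
        exact ⟨x, rfl⟩
      have hex : Function.Exact ε g := by
        intro x
        change g x = 0 ↔ x ∈ LinearMap.range ε
        rw [← h0, LinearMap.mem_ker]
        exact ⟨fun h => congrArg Subtype.val h, fun h => Subtype.ext h⟩
      have hδ : Function.Bijective (LCBasic.δ I ε g hε hg hex (i + 1)) := by
        constructor
        · rw [injective_iff_map_eq_zero]
          intro x hx
          obtain ⟨y, rfl⟩ := ((LCBasic.exact₃ I ε g hε hg hex (i + 1)) x).1 hx
          have := hac 0 i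
          rw [Subsingleton.elim y 0, map_zero]
        · intro y
          have := hac 0 (i + 1)
          exact ((LCBasic.exact₁ I ε g hε hg hex (i + 1)) y).1 (Subsingleton.elim _ _)
      obtain ⟨e⟩ := ih (fun n => X (n + 1)) (fun n => d (n + 1)) (LinearMap.ker (d 1)).subtype
        (Submodule.injective_subtype _) (by rw [Submodule.range_subtype])
        (fun n => h1 (n + 1)) (fun n j => hac (n + 1) j)
      exact ⟨LinearEquiv.trans e (LinearEquiv.ofBijective _ hδ)⟩

end K759.Acyc
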