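import Groth.Agent.GrLC.K759.GrObj

/-!
# The torsion submodule is homogeneous; the pieces of graded local cohomology form a grading
-/

set_option autoImplicit false
set_option linter.unusedSectionVars false
set_option linter.style.haveILetI false
set_option warn.classDefReducibility false
universe u

open DirectSum K759.Gr K759.GrObj

namespace K759.Hgr

variable {ι : Type} [AddCommGroup ι] [DecidableEq ι]
variable {R : Type u} [CommRing R] {σ : Type u} [SetLike σ R] [AddSubgroupClass σ R]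
  {𝒜 : ι → σ} [GradedRing 𝒜]

section

variable {M : Type u} [AddCommGroup M] [Module R M] {τ : Type u} [SetLike τ M]
  [AddSubgroupClass τ M] {ℳ : ι → τ} [DirectSum.Decomposition ℳ] [SetLike.GradedSMul 𝒜 ℳ]

/-- The annihilated elements of a homogeneous ideal: it is enough to test on homogeneous
elements. -/
lemma smul_eq_zero_of_homogeneous {b : Ideal R} (hb : b.IsHomogeneous 𝒜) {x : M}
    (h : ∀ i, ∀ r ∈ 𝒜 i, r ∈ b → r • x = 0) : ∀ r ∈ b, r • x = 0 := by
  intro r hr
  rw [← sum_cmp 𝒜 r, Finset.sum_smul]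
  exact Finset.sum_eq_zero (fun i _ => h i _ (cmp_mem 𝒜 i r) (hb i hr))

include 𝒜 in
/-- The components of an element killed by a homogeneous ideal are killed by it. -/
lemma smul_cmp_eq_zero {b : Ideal R} (hb : b.IsHomogeneous 𝒜) {x : M}
    (h : ∀ r ∈ b, r • x = 0) (g : ι) : ∀ r ∈ b, r • Gr.cmp ℳ g x = 0 := by
  refine smul_eq_zero_of_homogeneous hb (fun i r hr hrb => ?_)
  rw [← cmp_smul 𝒜 ℳ hr, h r hrb, map_zero]

lemma isHomogeneous_pow (a : HomogeneousIdeal 𝒜) (n : ℕ) : (a.toIdeal ^ n).IsHomogeneous 𝒜 := by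
  induction n with
  | zero => rw [pow_zero, Ideal.one_eq_top]; exact Ideal.IsHomogeneous.top 𝒜
  | succ n ih => rw [pow_succ]; exact Ideal.IsHomogeneous.mul ih a.isHomogeneous

/-- The torsion submodule of a graded module with respect to a homogeneous ideal is
homogeneous. -/
lemma isHomogeneous_gam (a : HomogeneousIdeal 𝒜) : (GrLC.gam a.toIdeal M).IsHomogeneous ℳ := by
  rintro g x ⟨n, hn⟩
  exact ⟨n, smul_cmp_eq_zero (ℳ := ℳ) (isHomogeneous_pow a n) hn g⟩

end

section

variable {M : Type u} [AddCommGroup M] [Module R M] {τ : Type u} [SetLike τ M]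
  [AddSubgroupClass τ M] {ℳ : ι → τ} [DirectSum.Decomposition ℳ] [SetLike.GradedSMul 𝒜 ℳ]
  (E : GrLC.StarInjRes 𝒜 ℳ) (a : HomogeneousIdeal 𝒜)

lemma isHomogeneous_cocyc (i : ℕ) : (E.cocyc a i).IsHomogeneous (E.X i).gr :=
  isHomogeneous_inf _ (isHomogeneous_gam a) (isHomogeneous_ker (E.d_grHom i))

lemma isHomogeneous_cobdy (i : ℕ) : (E.cobdy a i).IsHomogeneous (E.X i).gr := by
  cases i with
  | zero => exact isHomogeneous_bot _
  | succ n => exact isHomogeneous_map (E.d_grHom n) (isHomogeneous_gam a)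

lemma Hgr_eq (i : ℕ) : E.Hgr a i = quoGr (subGr (E.X i).gr (E.cocyc a i))
    ((E.cobdy a i).comap (E.cocyc a i).subtype) := rfl

/-- The decomposition of graded local cohomology. -/
noncomputable def Hdec (i : ℕ) : DirectSum.Decomposition (E.Hgr a i) :=
  letI := subDec (E.X i).gr (E.cocyc a i) (isHomogeneous_cocyc E a i)
  quoDec (subGr (E.X i).gr (E.cocyc a i)) ((E.cobdy a i).comap (E.cocyc a i).subtype)
    (isHomogeneous_comap (isGrHom_subtype (E.X i).gr (E.cocyc a i)) (isHomogeneous_cobdy E a i))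

instance Hgr_gradedSMul (i : ℕ) : SetLike.GradedSMul 𝒜 (E.Hgr a i) :=
  inferInstanceAs (SetLike.GradedSMul 𝒜 (quoGr (subGr (E.X i).gr (E.cocyc a i))
    ((E.cobdy a i).comap (E.cocyc a i).subtype)))

lemma isInternal (i : ℕ) : DirectSum.IsInternal (E.Hgr a i) :=
  letI := Hdec E a i
  DirectSum.Decomposition.isInternal (E.Hgr a i)

end

end K759.Hgr
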