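import Groth.Agent.GrLC.K759.Acyc
import Groth.Agent.GrLC.K759.Hgr
import Groth.Agent.GrLC.K761.ExtVan

/-!
# *injective modules are acyclic for `Γ_a`
-/

set_option autoImplicit false
set_option linter.unusedSectionVars false
set_option linter.style.haveILetI false
universe u

open DirectSum K759.Gr K759.GrObj Groth.Agent.Localalg

namespace K759.AcycInj

variable {ι : Type} [AddCommGroup ι] [DecidableEq ι]
variable {R : Type u} [CommRing R] [IsNoetherianRing R] {σ : Type u} [SetLike σ R]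
  [AddSubgroupClass σ R] {𝒜 : ι → σ} [GradedRing 𝒜]
variable {I : Type u} [AddCommGroup I] [Module R I] {τ' : Type u} [SetLike τ' I]
  [AddSubgroupClass τ' I] {ℐ : ι → τ'} [DirectSum.Decomposition ℐ] [SetLike.GradedSMul 𝒜 ℐ]

/-- `H^{i}_a(I) = 0` for `i ≥ 1`. -/
theorem subsingleton (a : HomogeneousIdeal 𝒜) (hI : GrLC.IsStarInj 𝒜 ℐ) (i : ℕ) (hi : 1 ≤ i) :
    Subsingleton (LocCoh.H a.toIdeal i I) := by
  refine LCBasic.subsingleton_of_ext a.toIdeal i (fun n => ⟨n, le_rfl, ?_⟩)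
  letI : DirectSum.Decomposition (quoGr (M := R) 𝒜 (a.toIdeal ^ n : Ideal R)) :=
    quoDec (M := R) 𝒜 (a.toIdeal ^ n : Ideal R) (Hgr.isHomogeneous_pow a n)
  exact K761.Baer.ext_subsingleton 𝒜 hI (M := R ⧸ a.toIdeal ^ n)
    (quoGr (M := R) 𝒜 (a.toIdeal ^ n : Ideal R)) i hi

variable {M : Type u} [AddCommGroup M] [Module R M] {τ : Type u} [SetLike τ M]
  [AddSubgroupClass τ M] {ℳ : ι → τ} [DirectSum.Decomposition ℳ] [SetLike.GradedSMul 𝒜 ℳ]

lemma cobdy_eq (E : GrLC.StarInjRes 𝒜 ℳ) (a : HomogeneousIdeal 𝒜) (i : ℕ) :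
    E.cobdy a i = Acyc.cobdy a.toIdeal (fun n => (E.X n).carrier) E.d i := by
  cases i <;> rfl

/-- Graded local cohomology is local cohomology. -/
theorem nonempty_equiv (E : GrLC.StarInjRes 𝒜 ℳ) (a : HomogeneousIdeal 𝒜) (i : ℕ) :
    Nonempty (E.H a i ≃ₗ[R] LocCoh.H a.toIdeal i M) := by
  obtain ⟨e⟩ := Acyc.main a.toIdeal i (fun n => (E.X n).carrier) E.d E.ε E.ε_injective
    E.exact_zero E.exact_succ (fun n j => subsingleton a (E.starInj n) (j + 1) (Nat.le_add_left 1 j))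
  have h : (E.cobdy a i).comap (E.cocyc a i).subtype =
      (Acyc.cobdy a.toIdeal (fun n => (E.X n).carrier) E.d i).comap (E.cocyc a i).subtype := by
    rw [cobdy_eq]
  exact ⟨(Submodule.quotEquivOfEq _ _ h).trans e⟩

end K759.AcycInj
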