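import Groth.Agent.GrLC.K759.GorInj
import Groth.Agent.GrLC.K759.VanIff
import Groth.Agent.GrLC.K763.GrField
import Groth.Agent.Localalg.Matlis3

/-!
# A module whose *Matlis dual is `*E(R ⧸ m)` is a shift of `R`
-/

set_option autoImplicit false
set_option linter.unusedSectionVars false
set_option linter.style.haveILetI false
universe u

open DirectSum GrLC K759.Gr K759.GrObj IsLocalRing
open Groth.Agent.Localalg

namespace K759.CanShift

/-- A maximal submodule containing `mC` yields a functional. -/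
lemma exists_functional {R : Type u} [CommRing R] (m : Ideal R) [hm : m.IsMaximal] {C : Type u}
    [AddCommGroup C] [Module R C] [Module.Finite R C] {N : Submodule R C}
    (hN : m • (⊤ : Submodule R C) ≤ N) (hne : N ≠ ⊤) :
    ∃ α : C →ₗ[R] R ⧸ m, α ≠ 0 ∧ ∀ x ∈ N, α x = 0 := by
  obtain ⟨P, hP, hNP⟩ := (eq_top_or_exists_le_coatom N).resolve_left hne
  have hs : IsSimpleModule R (C ⧸ P) := isSimpleModule_iff_isCoatom.2 hP
  obtain ⟨J, hJ, ⟨e⟩⟩ := isSimpleModule_iff_quot_maximal.1 hs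
  have hmJ : m = J := by
    refine hm.eq_of_le hJ.ne_top fun r hr => ?_
    have h1 : r • (1 : R ⧸ J) = 0 := by
      obtain ⟨x, hx⟩ := e.surjective 1
      obtain ⟨x, rfl⟩ := P.mkQ_surjective x
      rw [← hx, ← map_smul, ← map_smul]
      have : r • x ∈ P := hNP (hN (Submodule.smul_mem_smul hr trivial))
      rw [Submodule.mkQ_apply, (Submodule.Quotient.mk_eq_zero P).2 this, map_zero]
    have h2 : Ideal.Quotient.mk J (r * 1) = 0 := h1
    rwa [mul_one, Ideal.Quotient.eq_zero_iff_mem] at h2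
  subst hmJ
  refine ⟨e.toLinearMap ∘ₗ P.mkQ, fun h => ?_, fun x hx => ?_⟩
  · have : Nontrivial (C ⧸ P) := hs.nontrivial
    obtain ⟨y, hy⟩ := exists_ne (0 : C ⧸ P)
    obtain ⟨x, rfl⟩ := P.mkQ_surjective y
    apply hy
    apply e.injective
    rw [map_zero]
    exact LinearMap.congr_fun h x
  · rw [LinearMap.comp_apply, Submodule.mkQ_apply, (Submodule.Quotient.mk_eq_zero P).2 (hNP hx)]
    exact map_zero _

variable {R : Type u} [CommRing R] [IsNoetherianRing R] {𝒜 : ℤ → AddSubgroup R} [GradedRing 𝒜]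

theorem exists_shift (hpos : ∀ n : ℤ, n < 0 → ∀ x ∈ 𝒜 n, x = 0) {m : HomogeneousIdeal 𝒜}
    (hm : IsStarLocal 𝒜 m) [hmax : m.toIdeal.IsMaximal] (h0 : IsField (deg0 𝒜))
    (hmsp : m.toIdeal = Ideal.span (⋃ n ∈ Set.Ioi (0 : ℤ), (𝒜 n : Set R)))
    {E' : Type u} [AddCommGroup E'] [Module R E'] {𝓔 : ℤ → AddSubgroup E'}
    [DirectSum.Decomposition 𝓔] [SetLike.GradedSMul 𝒜 𝓔] {e : (R ⧸ m.toIdeal) →ₗ[R] E'}
    (he : IsStarInjHull 𝒜 (quotGr 𝒜 m) 𝓔 e)
    {C : Type u} [AddCommGroup C] [Module R C] {𝒞 : ℤ → AddSubgroup C}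
    [DirectSum.Decomposition 𝒞] [SetLike.GradedSMul 𝒜 𝒞] [Module.Finite R C]
    (θ : (C →ₗ[R] E') ≃ₗ[R] E') :
    ∃ (a : ℤ) (f : R →ₗ[R] C), Function.Bijective f ∧ IsGrHomDeg 𝒜 𝒞 f a := by
  classical
  have hmp : m.toIdeal.IsPrime := hmax.isPrime
  have hnt : Nontrivial (R ⧸ m.toIdeal) := Ideal.Quotient.nontrivial_iff.2 hmp.ne_top
  have hE' : Nontrivial E' := he.injective.nontrivial
  have hCnt : Nontrivial C := by
    by_contra h
    rw [not_nontrivial_iff_subsingleton] at h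
    have : Subsingleton E' := θ.symm.toEquiv.subsingleton
    exact not_subsingleton E' this
  -- `mC ≠ C`
  have hmC : m.toIdeal • (⊤ : Submodule R C) ≠ ⊤ := by
    intro h
    have h1 := VanIff.eq_top_of_smul_quotient (𝒜 := 𝒜) 𝒞 hpos m.toIdeal hmsp ⊥
      (isHomogeneous_bot 𝒞) (by
        rw [eq_top_iff]
        rintro x -
        obtain ⟨x, rfl⟩ := Submodule.mkQ_surjective _ x
        have h2 : x ∈ m.toIdeal • (⊤ : Submodule R C) := by rw [h]; trivial
        have h3 := Submodule.mem_map_of_mem (f := Submodule.mkQ (⊥ : Submodule R C)) h2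
        rw [Submodule.map_smul''] at h3
        exact Submodule.smul_mono le_rfl le_top h3)
    exact bot_ne_top h1
  obtain ⟨β, hβ0, hβ⟩ := exists_functional m.toIdeal le_rfl hmC
  -- a homogeneous element on which `β` does not vanish
  obtain ⟨a, c, hc, hβc⟩ : ∃ (a : ℤ) (c : C), c ∈ 𝒞 a ∧ β c ≠ 0 := by
    by_contra! hcon
    apply hβ0
    ext x
    rw [← sum_cmp 𝒞 x, map_sum]
    exact Finset.sum_eq_zero fun i _ => hcon i _ (cmp_mem 𝒞 i x)
  have hkill : ∀ (α : C →ₗ[R] R ⧸ m.toIdeal), ∀ r ∈ m.toIdeal, r • α = 0 := by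
    intro α r hr
    ext x
    obtain ⟨y, hy⟩ := Ideal.Quotient.mk_surjective (α x)
    rw [LinearMap.smul_apply, ← hy]
    change Ideal.Quotient.mk m.toIdeal (r * y) = 0
    exact Ideal.Quotient.eq_zero_iff_mem.2 (Ideal.mul_mem_right _ _ hr)
  have hθ : ∀ (α : C →ₗ[R] R ⧸ m.toIdeal), θ (e ∘ₗ α) ∈ LinearMap.range e := by
    intro α
    refine HullLoc.mem_range_of_smul_eq_zero hm he.toIsStarEss _ fun r hr => ?_
    rw [← map_smul, ← LinearMap.comp_smul, hkill α r hr, LinearMap.comp_zero, map_zero]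
  -- `C = mC + Rc`
  have hsup : m.toIdeal • (⊤ : Submodule R C) ⊔ Submodule.span R {c} = ⊤ := by
    by_contra hne
    obtain ⟨α, hα0, hα⟩ := exists_functional m.toIdeal le_sup_left hne
    obtain ⟨u, hu⟩ := hθ α
    obtain ⟨v, hv⟩ := hθ β
    have hv0 : v ≠ 0 := by
      rintro rfl
      rw [map_zero] at hv
      have h1 := θ.injective (hv.symm.trans (map_zero θ).symm)
      apply hβ0
      ext x
      have := LinearMap.congr_fun h1 x
      exact he.injective (this.trans (map_zero e).symm)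
    let := Ideal.Quotient.field m.toIdeal
    obtain ⟨r, hr⟩ := Ideal.Quotient.mk_surjective (u / v)
    have h2 : u = r • v := by
      have : r • v = Ideal.Quotient.mk m.toIdeal r * v := rfl
      rw [this, hr, div_mul_cancel₀ u hv0]
    have h3 : θ (e ∘ₗ α) = θ (e ∘ₗ (r • β)) := by
      rw [LinearMap.comp_smul, map_smul, ← hu, ← hv, h2, map_smul]
    have h4 : α = r • β := by
      have := θ.injective h3
      ext x
      exact he.injective (LinearMap.congr_fun this x)
    have h5 : r • β c = 0 := by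
      rw [← LinearMap.smul_apply, ← h4]
      exact hα c (Submodule.mem_sup_right (Submodule.mem_span_singleton_self c))
    have h6 : r ∈ m.toIdeal := PrimeHull.quot_smul_eq_zero hβc h5
    exact hα0 (h4.trans (hkill β r h6))
  -- `C = Rc`
  have hspan : Submodule.span R {c} = ⊤ := by
    refine VanIff.eq_top_of_smul_quotient (𝒜 := 𝒜) 𝒞 hpos m.toIdeal hmsp _
      (isHomogeneous_span 𝒜 𝒞 {c} fun z hz => by
        rw [Set.mem_singleton_iff.1 hz]; exact ⟨a, hc⟩) ?_
    rw [eq_top_iff]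
    rintro x -
    obtain ⟨x, rfl⟩ := Submodule.mkQ_surjective _ x
    have h1 : x ∈ m.toIdeal • (⊤ : Submodule R C) ⊔ Submodule.span R {c} := by rw [hsup]; trivial
    obtain ⟨y, hy, z, hz, rfl⟩ := Submodule.mem_sup.1 h1
    rw [map_add, Submodule.mkQ_apply _ z, (Submodule.Quotient.mk_eq_zero _).2 hz, add_zero]
    have h3 := Submodule.mem_map_of_mem (f := Submodule.mkQ (Submodule.span R {c})) hy
    rw [Submodule.map_smul''] at h3
    exact Submodule.smul_mono le_rfl le_top h3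
  refine ⟨a, LinearMap.toSpanSingleton R C c, ⟨?_, ?_⟩, fun g r hr => smul_mem 𝒜 𝒞 hr hc⟩
  · have hdeg : IsGrHomDeg 𝒜 𝒞 (LinearMap.toSpanSingleton R C c) a :=
      fun g r hr => smul_mem 𝒜 𝒞 hr hc
    rw [← LinearMap.ker_eq_bot]
    by_contra hne
    obtain ⟨i, r, hr, hri, hr0⟩ := exists_homogeneous_mem 𝒜 (isHomogeneous_kerDeg hdeg) hne
    rw [LinearMap.mem_ker, LinearMap.toSpanSingleton_apply] at hr
    have h1 : ∀ x : C, r • x = 0 := by
      intro x
      have : x ∈ Submodule.span R {c} := by rw [hspan]; trivial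
      obtain ⟨s, rfl⟩ := Submodule.mem_span_singleton.1 this
      rw [smul_comm, hr, smul_zero]
    have h2 : ∀ y : E', r • y = 0 := by
      intro y
      obtain ⟨α, rfl⟩ := θ.surjective y
      rw [← map_smul]
      have : r • α = 0 := by
        ext x
        rw [LinearMap.smul_apply, ← map_smul, h1 x, map_zero]
        rfl
      rw [this, map_zero]
    obtain ⟨f', hf'⟩ := HullLoc.exists_isInjectiveHull hm he
    have h3 : algebraMap R (Localization.AtPrime m.toIdeal) r ∈
        (⊥ : Ideal (Localization.AtPrime m.toIdeal)) := by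
      have : IsNoetherianRing (Localization.AtPrime m.toIdeal) :=
        IsLocalization.isNoetherianRing m.toIdeal.primeCompl _ inferInstance
      refine Matlis.mem_of_forall_smul_eq_zero hf' fun x _ => ?_
      obtain ⟨s, y, hs, hsy⟩ := LocHull.exists_rep m.toIdeal x
      refine LocHull.smul_unit m.toIdeal hs ?_
      rw [algebraMap_smul, smul_comm, hsy, ← map_smul, h2, map_zero]
    rw [Ideal.mem_bot, IsLocalization.map_eq_zero_iff m.toIdeal.primeCompl] at h3
    obtain ⟨s, hs⟩ := h3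
    -- the degree `0` component of `s` is a unit
    have h4 : Gr.cmp 𝒜 0 (s : R) * r = 0 := by
      have h5 := StarE.cmp_smul_right (𝒜 := 𝒜) (ℳ := 𝒜) hri (s : R) i
      rw [sub_self, smul_eq_mul, smul_eq_mul, hs, map_zero] at h5
      exact h5.symm
    have h6 : Gr.cmp 𝒜 0 (s : R) ≠ 0 := by
      intro h
      apply s.2
      rw [← sum_cmp 𝒜 (s : R)]
      refine sum_mem fun j _ => ?_
      rcases lt_trichotomy j 0 with hj | hj | hj
      · rw [hpos j hj _ (cmp_mem 𝒜 j _)]; exact zero_mem _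
      · subst hj; rw [h]; exact zero_mem _
      · exact Pos.mem_of_pos (𝒜 := 𝒜) m.toIdeal hmsp hj (cmp_mem 𝒜 j _)
    have h7 : IsUnit (Gr.cmp 𝒜 0 (s : R)) := K763.GrField.isUnit_of_mem 𝒜 h0 (cmp_mem 𝒜 0 _) h6
    exact hr0 ((h7.mul_right_eq_zero).1 h4)
  · intro x
    have : x ∈ Submodule.span R {c} := by rw [hspan]; trivial
    obtain ⟨s, hs⟩ := Submodule.mem_span_singleton.1 this
    exact ⟨s, hs⟩

end K759.CanShift
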