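import Groth.Agent.GrLC.K759.Hull
import Groth.Agent.Localalg.InjHull
import Mathlib.Algebra.Module.Hom
import Mathlib.Data.Finsupp.Basic

/-!
# The cofree graded module on an `R`-module

`Cof 𝒜 I` is the direct sum of `ι` copies of `I`, with `r ∈ 𝒜 i` sending `x` in degree `g` to
`r x` in degree `i + g`; it is right adjoint to forgetting the grading, so it is *injective when
`I` is injective.
-/

set_option autoImplicit false
set_option linter.unusedSectionVars false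
set_option linter.style.haveILetI false
set_option warn.classDefReducibility false
universe u

open DirectSum K759.Gr K759.GrObj

namespace K759.Cofree

variable {ι : Type} [AddCommGroup ι] [DecidableEq ι]
variable {R : Type u} [CommRing R] {σ : Type u} [SetLike σ R] [AddSubgroupClass σ R]
  (𝒜 : ι → σ) [GradedRing 𝒜]
variable (I : Type u) [AddCommGroup I] [Module R I]

/-- Action of a homogeneous element, on functions. -/
noncomputable def actFun (i : ι) (r : R) : (ι →₀ I) →+ (ι →₀ I) :=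
  Finsupp.liftAddHom (fun g => (Finsupp.singleAddHom (i + g)).comp (DistribSMul.toAddMonoidHom I r))

lemma actFun_single (i : ι) (r : R) (g : ι) (x : I) :
    actFun I i r (Finsupp.single g x) = Finsupp.single (i + g) (r • x) :=
  Finsupp.liftAddHom_apply_single _ _ _

/-- Action of a homogeneous element. -/
noncomputable def act (i : ι) : 𝒜 i →+ AddMonoid.End (ι →₀ I) where
  toFun r := actFun I i (r : R)
  map_zero' := Finsupp.addHom_ext (fun g x => by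
    rw [actFun_single, ZeroMemClass.coe_zero, zero_smul, Finsupp.single_zero]
    rfl)
  map_add' r s := Finsupp.addHom_ext (fun g x => by
    change _ = actFun I i (r : R) (Finsupp.single g x) + actFun I i (s : R) (Finsupp.single g x)
    rw [actFun_single, actFun_single, actFun_single, AddMemClass.coe_add, add_smul,
      Finsupp.single_add])

lemma act_single (i : ι) (r : 𝒜 i) (g : ι) (x : I) :
    act 𝒜 I i r (Finsupp.single g x) = Finsupp.single (i + g) ((r : R) • x) :=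
  actFun_single I i (r : R) g x

/-- The action of the graded ring. -/
noncomputable def rho : (⨁ i, 𝒜 i) →+* AddMonoid.End (ι →₀ I) :=
  DirectSum.toSemiring (act 𝒜 I)
    (Finsupp.addHom_ext (fun g x => by
      change act 𝒜 I 0 _ (Finsupp.single g x) = Finsupp.single g x
      rw [act_single, zero_add]
      congr 1
      exact one_smul R x))
    (fun {i j} a b => Finsupp.addHom_ext (fun g x => by
      change act 𝒜 I (i + j) _ (Finsupp.single g x) =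
        act 𝒜 I i a (act 𝒜 I j b (Finsupp.single g x))
      rw [act_single, act_single, act_single, add_assoc]
      congr 1
      exact mul_smul (a : R) (b : R) x))

/-- The cofree graded module. -/
def Cof (_ : ι → σ) (I : Type u) [AddCommGroup I] : Type u := ι →₀ I

noncomputable instance : AddCommGroup (Cof 𝒜 I) := inferInstanceAs (AddCommGroup (ι →₀ I))

noncomputable instance : Module R (Cof 𝒜 I) :=
  letI : Module (AddMonoid.End (ι →₀ I)) (Cof 𝒜 I) :=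
    inferInstanceAs (Module (AddMonoid.End (ι →₀ I)) (ι →₀ I))
  Module.compHom (Cof 𝒜 I) ((rho 𝒜 I).comp (decomposeRingEquiv 𝒜).toRingHom)

/-- An element concentrated in degree `g`. -/
noncomputable def sg (g : ι) : I →+ Cof 𝒜 I := Finsupp.singleAddHom g

/-- Value at `g`. -/
noncomputable def ev (g : ι) : Cof 𝒜 I →+ I := Finsupp.applyAddHom g

variable {I} in
lemma ev_sg (g k : ι) (x : I) : ev 𝒜 I k (sg 𝒜 I g x) = if g = k then x else 0 :=
  Finsupp.single_apply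

variable {I} in
lemma ext_ev {x y : Cof 𝒜 I} (h : ∀ g, ev 𝒜 I g x = ev 𝒜 I g y) : x = y := Finsupp.ext h

variable {I} in
lemma addHom_ext {P : Type*} [AddCommGroup P] {f g : Cof 𝒜 I →+ P}
    (h : ∀ i x, f (sg 𝒜 I i x) = g (sg 𝒜 I i x)) : f = g :=
  Finsupp.addHom_ext h

lemma smul_def (r : R) (x : Cof 𝒜 I) : r • x = rho 𝒜 I (decompose 𝒜 r) x := rfl

lemma smul_sg {i : ι} {r : R} (hr : r ∈ 𝒜 i) (g : ι) (x : I) :
    r • sg 𝒜 I g x = sg 𝒜 I (i + g) (r • x) := by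
  rw [smul_def, decompose_of_mem 𝒜 hr]
  change (DirectSum.toAddMonoid (act 𝒜 I)) (DirectSum.of _ i ⟨r, hr⟩) (Finsupp.single g x) = _
  rw [DirectSum.toAddMonoid_of]
  exact act_single 𝒜 I i ⟨r, hr⟩ g x

lemma ev_smul {i : ι} {r : R} (hr : r ∈ 𝒜 i) (g : ι) (x : Cof 𝒜 I) :
    ev 𝒜 I g (r • x) = r • ev 𝒜 I (g - i) x := by
  have : ((ev 𝒜 I g).comp (DistribSMul.toAddMonoidHom (Cof 𝒜 I) r)) =
      (DistribSMul.toAddMonoidHom I r).comp (ev 𝒜 I (g - i)) := by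
    refine addHom_ext 𝒜 (fun k y => ?_)
    change ev 𝒜 I g (r • sg 𝒜 I k y) = r • ev 𝒜 I (g - i) (sg 𝒜 I k y)
    rw [smul_sg 𝒜 I hr, ev_sg, ev_sg]
    by_cases h : k = g - i
    · rw [if_pos h, if_pos (by rw [h]; abel)]
    · rw [if_neg h, if_neg (fun h' => h (by rw [← h']; abel)), smul_zero]
  exact DFunLike.congr_fun this x

/-- The pieces. -/
noncomputable def gr : ι → AddSubgroup (Cof 𝒜 I) := fun g => (sg 𝒜 I g).range

lemma sg_mem (g : ι) (x : I) : sg 𝒜 I g x ∈ gr 𝒜 I g := ⟨x, rfl⟩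

instance : SetLike.GradedSMul 𝒜 (gr 𝒜 I) where
  smul_mem _ _ _ _ hr hx := by
    obtain ⟨y, rfl⟩ := hx
    rw [smul_sg 𝒜 I hr]
    exact sg_mem 𝒜 I _ _

noncomputable instance dec : DirectSum.Decomposition (gr 𝒜 I) :=
  mkDecomp (gr 𝒜 I) (fun g => (sg 𝒜 I g).comp (ev 𝒜 I g)) (fun g x => sg_mem 𝒜 I g _)
    (fun x => by
      classical
      refine ⟨Finsupp.support x, fun i hi => ?_, ?_⟩
      · change sg 𝒜 I i ((show ι →₀ I from x) i) = 0
        rw [Finsupp.notMem_support_iff.1 hi, map_zero]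
      · exact Finsupp.sum_single (show ι →₀ I from x))
    (fun i x hx => by
      obtain ⟨y, rfl⟩ := hx
      change sg 𝒜 I i (ev 𝒜 I i (sg 𝒜 I i y)) = _
      rw [ev_sg, if_pos rfl])
    (fun i j x hij hx => by
      obtain ⟨y, rfl⟩ := hx
      change sg 𝒜 I j (ev 𝒜 I j (sg 𝒜 I i y)) = _
      rw [ev_sg, if_neg hij, map_zero])

lemma mem_gr_iff {g : ι} {x : Cof 𝒜 I} : x ∈ gr 𝒜 I g ↔ ∀ k, k ≠ g → ev 𝒜 I k x = 0 := by
  constructor
  · rintro ⟨y, rfl⟩ k hk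
    rw [ev_sg, if_neg (Ne.symm hk)]
  · intro h
    refine ⟨ev 𝒜 I g x, ext_ev 𝒜 (fun k => ?_)⟩
    rw [ev_sg]
    split_ifs with hk
    · rw [hk]
    · exact (h k (Ne.symm hk)).symm

/-- The cofree module as an object of the graded category. -/
noncomputable abbrev obj : GrLC.GMod.{u} 𝒜 := GrLC.GMod.of 𝒜 (Cof 𝒜 I) (gr 𝒜 I)

/-- The counit, additive version. -/
noncomputable def sumAdd : Cof 𝒜 I →+ I :=
  (Finsupp.liftAddHom (fun _ : ι => AddMonoidHom.id I) : (ι →₀ I) →+ I)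

lemma sumAdd_sg (g : ι) (x : I) : sumAdd 𝒜 I (sg 𝒜 I g x) = x :=
  Finsupp.liftAddHom_apply_single _ _ _

lemma sumAdd_smul {i : ι} {s : R} (hs : s ∈ 𝒜 i) (x : Cof 𝒜 I) :
    sumAdd 𝒜 I (s • x) = s • sumAdd 𝒜 I x := by
  have : (sumAdd 𝒜 I).comp (DistribSMul.toAddMonoidHom (Cof 𝒜 I) s) =
      (DistribSMul.toAddMonoidHom I s).comp (sumAdd 𝒜 I) := by
    refine addHom_ext 𝒜 (fun k y => ?_)
    change sumAdd 𝒜 I (s • sg 𝒜 I k y) = s • sumAdd 𝒜 I (sg 𝒜 I k y)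
    rw [smul_sg 𝒜 I hs, sumAdd_sg, sumAdd_sg]
  exact DFunLike.congr_fun this x

/-- The counit: sum of all components. -/
noncomputable def sumHom : Cof 𝒜 I →ₗ[R] I where
  toFun := sumAdd 𝒜 I
  map_add' := map_add _
  map_smul' r x := by
    rw [RingHom.id_apply]
    conv_lhs => rw [← sum_cmp 𝒜 r, Finset.sum_smul, map_sum]
    conv_rhs => rw [← sum_cmp 𝒜 r, Finset.sum_smul]
    exact Finset.sum_congr rfl (fun i _ => sumAdd_smul 𝒜 I (cmp_mem 𝒜 i r) x)

lemma sumHom_sg (g : ι) (x : I) : sumHom 𝒜 I (sg 𝒜 I g x) = x :=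
  Finsupp.liftAddHom_apply_single _ _ _

/-- The component map on the cofree module. -/
lemma cmp_gr (g : ι) (x : Cof 𝒜 I) : Gr.cmp (gr 𝒜 I) g x = sg 𝒜 I g (ev 𝒜 I g x) := by
  have : Gr.cmp (gr 𝒜 I) g = (sg 𝒜 I g).comp (ev 𝒜 I g) := by
    refine addHom_ext 𝒜 (fun k y => ?_)
    change Gr.cmp (gr 𝒜 I) g (sg 𝒜 I k y) = sg 𝒜 I g (ev 𝒜 I g (sg 𝒜 I k y))
    rw [cmp_of_mem (gr 𝒜 I) (sg_mem 𝒜 I k y), ev_sg]
    split_ifs with h
    · rw [h]
    · rw [map_zero]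
  exact DFunLike.congr_fun this x

section Lift

variable {I}
variable {N : Type u} [AddCommGroup N] [Module R N] {τ : Type u} [SetLike τ N]
  [AddSubgroupClass τ N] (𝒩 : ι → τ) [DirectSum.Decomposition 𝒩] [SetLike.GradedSMul 𝒜 𝒩]

/-- The underlying function of `lift`. -/
noncomputable def liftFun (ψ : N →ₗ[R] I) (n : N) : Cof 𝒜 I :=
  (Finsupp.onFinset (supp 𝒩 n) (fun g => ψ (Gr.cmp 𝒩 g n)) (fun g hg => by
    by_contra h
    rw [cmp_eq_zero_of_notMem 𝒩 h, map_zero] at hg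
    exact hg rfl) : ι →₀ I)

lemma ev_liftFun (ψ : N →ₗ[R] I) (g : ι) (n : N) :
    ev 𝒜 I g (liftFun 𝒜 𝒩 ψ n) = ψ (Gr.cmp 𝒩 g n) := rfl

/-- The homogeneous map into the cofree module attached to a linear map. -/
noncomputable def lift (ψ : N →ₗ[R] I) : N →ₗ[R] Cof 𝒜 I where
  toFun := liftFun 𝒜 𝒩 ψ
  map_add' x y := ext_ev 𝒜 (fun g => by
    rw [map_add, ev_liftFun, ev_liftFun, ev_liftFun, map_add, map_add])
  map_smul' r x := ext_ev 𝒜 (fun g => by
    rw [RingHom.id_apply, ev_liftFun]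
    conv_lhs => rw [← sum_cmp 𝒜 r, Finset.sum_smul, map_sum, map_sum]
    conv_rhs => rw [← sum_cmp 𝒜 r, Finset.sum_smul, map_sum]
    refine Finset.sum_congr rfl (fun i _ => ?_)
    rw [cmp_smul' 𝒜 𝒩 (cmp_mem 𝒜 i r), ev_smul 𝒜 I (cmp_mem 𝒜 i r), map_smul, ev_liftFun])

lemma ev_lift (ψ : N →ₗ[R] I) (g : ι) (n : N) :
    ev 𝒜 I g (lift 𝒜 𝒩 ψ n) = ψ (cmp 𝒩 g n) := rfl

lemma isGrHom_lift (ψ : N →ₗ[R] I) : GrLC.IsGrHom 𝒩 (gr 𝒜 I) (lift 𝒜 𝒩 ψ) := by
  intro g n hn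
  rw [mem_gr_iff]
  intro k hk
  rw [ev_lift, cmp_ne 𝒩 (Ne.symm hk) hn, map_zero]

lemma lift_injective (ψ : N →ₗ[R] I) (h : Function.Injective ψ) :
    Function.Injective (lift 𝒜 𝒩 ψ) := by
  intro x y hxy
  refine ext_cmp 𝒩 (fun i => h ?_)
  rw [← ev_lift 𝒜 𝒩, ← ev_lift 𝒜 𝒩, hxy]

lemma lift_sumHom_comp (Φ : N →ₗ[R] Cof 𝒜 I) (hΦ : GrLC.IsGrHom 𝒩 (gr 𝒜 I) Φ) :
    lift 𝒜 𝒩 (sumHom 𝒜 I ∘ₗ Φ) = Φ := by
  refine LinearMap.ext (fun n => ext_ev 𝒜 (fun g => ?_))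
  rw [ev_lift, LinearMap.comp_apply, ← cmp_map hΦ, cmp_gr, sumHom_sg]

end Lift

/-- The cofree module on an injective module is *injective. -/
theorem isStarInj [Module.Injective R I] : GrLC.IsStarInj 𝒜 (gr 𝒜 I) := by
  intro A B f hf hinj g hg
  obtain ⟨ψ, hψ⟩ := Module.Injective.out f hinj (sumHom 𝒜 I ∘ₗ g)
  refine ⟨lift 𝒜 B.gr ψ, isGrHom_lift 𝒜 B.gr ψ, ?_⟩
  rw [← lift_sumHom_comp 𝒜 A.gr g hg]
  refine LinearMap.ext (fun a => ext_ev 𝒜 (fun i => ?_))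
  rw [LinearMap.comp_apply, ev_lift, ev_lift, cmp_map hf, hψ]

/-- Enough *injectives. -/
theorem exists_embedding {M : Type u} [AddCommGroup M] [Module R M] (ℳ : ι → AddSubgroup M)
    [DirectSum.Decomposition ℳ] [SetLike.GradedSMul 𝒜 ℳ] :
    ∃ (J : GrLC.GMod.{u} 𝒜) (f : M →ₗ[R] J.carrier), GrLC.IsGrHom ℳ J.gr f ∧
      Function.Injective f ∧ GrLC.IsStarInj 𝒜 J.gr := by
  obtain ⟨I, _, _, i, hi, hI⟩ :=
    Groth.Agent.Localalg.InjHull.exists_embedding_injective R M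
  exact ⟨obj 𝒜 I, lift 𝒜 ℳ i, isGrHom_lift 𝒜 ℳ i, lift_injective 𝒜 ℳ i hi, isStarInj 𝒜 I⟩

end K759.Cofree
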