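import Groth.Agent.GrLC.K759.GrObj
import Groth.Prelude.Def_Wider

/-!
# *essential extensions, *injective hulls
-/

set_option autoImplicit false
set_option linter.unusedSectionVars false
set_option linter.style.haveILetI false
set_option warn.classDefReducibility false
universe u

open DirectSum K759.Gr K759.GrObj

namespace K759.Ess

variable {ι : Type} [AddCommGroup ι] [DecidableEq ι]
variable {R : Type u} [CommRing R] {σ : Type u} [SetLike σ R] [AddSubgroupClass σ R]
  {𝒜 : ι → σ} [GradedRing 𝒜]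
variable {M : Type u} [AddCommGroup M] [Module R M] {τ : Type u} [SetLike τ M]
  [AddSubgroupClass τ M] {ℳ : ι → τ}
variable {N : Type u} [AddCommGroup N] [Module R N] {τ' : Type u} [SetLike τ' N]
  [AddSubgroupClass τ' N] {𝒩 : ι → τ'} [DirectSum.Decomposition 𝒩]

section

variable (𝒜)

include 𝒜 in
/-- Homogeneous multiples of homogeneous elements in a *essential submodule. -/
lemma exists_smul_of_homogeneous [SetLike.GradedSMul 𝒜 𝒩] {A : Submodule R N}
    (hA : A.IsHomogeneous 𝒩) (hess : ∀ P : Submodule R N, P.IsHomogeneous 𝒩 → P ≠ ⊥ → P ⊓ A ≠ ⊥)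
    {i : ι} {x : N} (hx : x ∈ 𝒩 i) (hx0 : x ≠ 0) :
    ∃ j, ∃ r ∈ 𝒜 j, r • x ≠ 0 ∧ r • x ∈ A := by
  have hP : (Submodule.span R {x}).IsHomogeneous 𝒩 := isHomogeneous_span 𝒜 𝒩 _ (by
    intro y hy
    rw [Set.mem_singleton_iff] at hy
    exact ⟨i, hy ▸ hx⟩)
  obtain ⟨k, y, hy, hyk, hy0⟩ := exists_homogeneous_mem 𝒩
    (isHomogeneous_inf 𝒩 hP hA) (hess _ hP (by
      rw [Ne, Submodule.span_singleton_eq_bot]
      exact hx0))
  obtain ⟨r, hr⟩ := Submodule.mem_span_singleton.1 hy.1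
  have h1 : cmp 𝒜 (k - i) r • x = y := by
    have h2 : cmp 𝒩 k (r • x) = cmp 𝒜 (k - i) r • x := by
      conv_lhs => rw [← sum_cmp 𝒜 r, Finset.sum_smul, map_sum]
      have h3 : ∀ j, cmp 𝒩 k (cmp 𝒜 j r • x) = if j = k - i then cmp 𝒜 j r • x else 0 := by
        intro j
        rw [cmp_of_mem 𝒩 (smul_mem 𝒜 𝒩 (cmp_mem 𝒜 j r) hx)]
        congr 1
        rw [eq_sub_iff_add_eq]
      simp only [h3]
      rw [Finset.sum_ite_eq']
      split_ifs with h
      · rfl
      · rw [cmp_eq_zero_of_notMem 𝒜 h, zero_smul]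
    rw [← h2, hr, cmp_same 𝒩 hyk]
  exact ⟨k - i, cmp 𝒜 (k - i) r, cmp_mem 𝒜 _ _, by rw [h1]; exact hy0, by rw [h1]; exact hy.2⟩

include 𝒜 in
/-- The key step: homogeneous multiples of arbitrary elements in a *essential submodule. -/
lemma exists_smul [SetLike.GradedSMul 𝒜 𝒩] {A : Submodule R N}
    (hA : A.IsHomogeneous 𝒩) (hess : ∀ P : Submodule R N, P.IsHomogeneous 𝒩 → P ≠ ⊥ → P ⊓ A ≠ ⊥)
    {x : N} (hx0 : x ≠ 0) :
    ∃ j, ∃ r ∈ 𝒜 j, r • x ≠ 0 ∧ r • x ∈ A := by
  classical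
  let B : N → Finset ι := fun x => (supp 𝒩 x).filter (fun i => cmp 𝒩 i x ∉ A)
  have hB : ∀ (x : N) (i : ι), i ∈ B x ↔ cmp 𝒩 i x ∉ A := by
    intro x i
    simp only [B, Finset.mem_filter, mem_supp, and_iff_right_iff_imp]
    intro h h0
    exact h (h0 ▸ A.zero_mem)
  suffices H : ∀ (n : ℕ) (x : N), (B x).card = n → x ≠ 0 →
      ∃ j, ∃ r ∈ 𝒜 j, r • x ≠ 0 ∧ r • x ∈ A from H _ x rfl hx0
  intro n
  induction n using Nat.strong_induction_on with
  | _ n ih =>
    intro x hn hx0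
    by_cases hBx : B x = ∅
    · refine ⟨0, 1, SetLike.one_mem_graded 𝒜, by rwa [one_smul], ?_⟩
      rw [one_smul]
      refine mem_of_cmp 𝒩 A (fun i => ?_)
      by_contra h
      exact absurd ((hB x i).2 h) (by rw [hBx]; exact Finset.notMem_empty i)
    · obtain ⟨i, hi⟩ := Finset.nonempty_iff_ne_empty.2 hBx
      have hiA := (hB x i).1 hi
      have hi0 : cmp 𝒩 i x ≠ 0 := fun h => hiA (h ▸ A.zero_mem)
      obtain ⟨j, r, hr, hr0, hrA⟩ := exists_smul_of_homogeneous 𝒜 hA hess (cmp_mem 𝒩 i x) hi0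
      have hrx : r • x ≠ 0 := by
        intro h
        apply hr0
        rw [← cmp_smul 𝒜 𝒩 hr, h, map_zero]
      have hcard : (B (r • x)).card < n := by
        rw [← hn]
        have himg : (B (r • x)).image (fun k => k - j) ⊆ (B x).erase i := by
          intro k' hk'
          obtain ⟨k, hk, rfl⟩ := Finset.mem_image.1 hk'
          rw [hB, cmp_smul' 𝒜 𝒩 hr] at hk
          rw [Finset.mem_erase, hB]
          exact ⟨fun h => hk (h ▸ hrA), fun h => hk (A.smul_mem r h)⟩
        calc (B (r • x)).card = ((B (r • x)).image (fun k => k - j)).card :=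
              (Finset.card_image_of_injective _ (fun a b h => sub_left_injective h)).symm
          _ ≤ ((B x).erase i).card := Finset.card_le_card himg
          _ < (B x).card := Finset.card_erase_lt_of_mem hi
      obtain ⟨j', r', hr', h0, hA'⟩ := ih _ hcard (r • x) rfl hrx
      refine ⟨j' + j, r' * r, SetLike.mul_mem_graded hr' hr, ?_, ?_⟩
      · rwa [mul_smul]
      · rwa [mul_smul]

end

/-- A *essential extension is essential (the image being homogeneous). -/
theorem isEssentialInj_of_range [SetLike.GradedSMul 𝒜 𝒩] {f : M →ₗ[R] N}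
    (hf : GrLC.IsStarEss ℳ 𝒩 f) (hr : (LinearMap.range f).IsHomogeneous 𝒩) :
    InjHull.IsEssentialInj f where
  injective := hf.injective
  essential P hP := by
    obtain ⟨x, hx, hx0⟩ := (Submodule.ne_bot_iff P).1 hP
    obtain ⟨j, r, _, h0, hA⟩ := exists_smul 𝒜 hr hf.essential hx0
    exact (Submodule.ne_bot_iff _).2 ⟨r • x, ⟨P.smul_mem r hx, hA⟩, h0⟩

/-- A *essential extension is essential. -/
theorem isEssentialInj [DirectSum.Decomposition ℳ] [SetLike.GradedSMul 𝒜 𝒩] {f : M →ₗ[R] N}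
    (hf : GrLC.IsStarEss ℳ 𝒩 f) : InjHull.IsEssentialInj f :=
  isEssentialInj_of_range (𝒜 := 𝒜) hf (isHomogeneous_range hf.grHom)

omit [AddCommGroup ι] in
/-- A homogeneous map which is injective on a *essential submodule is injective. -/
theorem injective_of_comp {P : Type u} [AddCommGroup P] [Module R P] {f : M →ₗ[R] N}
    (hf : GrLC.IsStarEss ℳ 𝒩 f)
    {g : N →ₗ[R] P} (hg : (LinearMap.ker g).IsHomogeneous 𝒩)
    (h : Function.Injective (g ∘ₗ f)) : Function.Injective g := by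
  rw [← LinearMap.ker_eq_bot]
  by_contra hne
  apply hf.essential _ hg hne
  rw [eq_bot_iff]
  rintro _ ⟨hx, m, rfl⟩
  rw [SetLike.mem_coe, LinearMap.mem_ker] at hx
  have : m = 0 := h (by simpa using hx)
  rw [this, map_zero]
  exact Submodule.zero_mem _

end K759.Ess
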