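import Groth.Agent.GrLC.K759.Cofree

/-!
# Existence of *injective hulls and of *injective resolutions
-/

set_option autoImplicit false
set_option linter.unusedSectionVars false
set_option linter.style.haveILetI false
set_option warn.classDefReducibility false
universe u

open DirectSum K759.Gr K759.GrObj

namespace K759.Exist

variable {ι : Type} [AddCommGroup ι] [DecidableEq ι]
variable {R : Type u} [CommRing R] {σ : Type u} [SetLike σ R] [AddSubgroupClass σ R]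
  {𝒜 : ι → σ} [GradedRing 𝒜]
variable {M : Type u} [AddCommGroup M] [Module R M] {ℳ : ι → AddSubgroup M}
  [DirectSum.Decomposition ℳ] [SetLike.GradedSMul 𝒜 ℳ]

/-- A *injective hull inside a given *injective module. -/
theorem exists_hull_sub {J : Type u} [AddCommGroup J] [Module R J] {𝒥 : ι → AddSubgroup J}
    [DirectSum.Decomposition 𝒥] [SetLike.GradedSMul 𝒜 𝒥] (hJ : GrLC.IsStarInj 𝒜 𝒥)
    (f : M →ₗ[R] J) (hf : GrLC.IsGrHom ℳ 𝒥 f) (hinj : Function.Injective f) :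
    ∃ (E : Submodule R J) (hE : E.IsHomogeneous 𝒥) (hle : ∀ m, f m ∈ E),
      letI := subDec 𝒥 E hE
      GrLC.IsStarInjHull 𝒜 ℳ (subGr 𝒥 E) (f.codRestrict E hle) := by
  let C : Set (Submodule R J) := {P | P.IsHomogeneous 𝒥 ∧ LinearMap.range f ≤ P ∧
    ∀ Q : Submodule R J, Q.IsHomogeneous 𝒥 → Q ≤ P → Q ≠ ⊥ → Q ⊓ LinearMap.range f ≠ ⊥}
  have hC : LinearMap.range f ∈ C := ⟨isHomogeneous_range hf, le_rfl, fun Q _ hQ hQ0 => by
    rwa [inf_eq_left.2 hQ]⟩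
  obtain ⟨E, -, hE⟩ := zorn_le_nonempty₀ C (by
    intro c hc hchain P₀ hP₀
    refine ⟨sSup c, ⟨isHomogeneous_sSup 𝒥 (fun P hP => (hc hP).1),
      (hc hP₀).2.1.trans (le_sSup hP₀), ?_⟩, fun P hP => le_sSup hP⟩
    intro Q hQ hQc hQ0
    obtain ⟨i, x, hxQ, hxi, hx0⟩ := exists_homogeneous_mem 𝒥 hQ hQ0
    obtain ⟨P, hP, hxP⟩ :=
      (Submodule.mem_sSup_of_directed ⟨P₀, hP₀⟩ hchain.directedOn).1 (hQc hxQ)
    have h1 := (hc hP).2.2 (Submodule.span R {x}) (isHomogeneous_span 𝒜 𝒥 _ (by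
        intro y hy
        rw [Set.mem_singleton_iff] at hy
        exact ⟨i, hy ▸ hxi⟩)) (by rwa [Submodule.span_singleton_le_iff_mem])
      (by rwa [Ne, Submodule.span_singleton_eq_bot])
    exact fun h => h1 (le_bot_iff.1 (h ▸ inf_le_inf_right _
      (by rwa [Submodule.span_singleton_le_iff_mem])))) _ hC
  obtain ⟨hEhom, hfE, hess⟩ := hE.prop
  have hle : ∀ m, f m ∈ E := fun m => hfE ⟨m, rfl⟩
  letI := subDec 𝒥 E hEhom
  refine ⟨E, hEhom, hle, ?_⟩
  refine { injective := ?_, grHom := fun i m hm => hf i m hm, essential := ?_, starInj := ?_ }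
  · intro a b hab
    exact hinj (congrArg Subtype.val hab)
  · intro P hP hP0
    have h1 : (P.map E.subtype).IsHomogeneous 𝒥 :=
      isHomogeneous_map (ℳ := subGr 𝒥 E) (isGrHom_subtype 𝒥 E) hP
    have h2 : P.map E.subtype ≠ ⊥ := by
      intro h
      apply hP0
      rw [eq_bot_iff]
      intro x hx
      have h' : E.subtype x ∈ P.map E.subtype := ⟨x, hx, rfl⟩
      rw [h, Submodule.mem_bot] at h'
      exact Subtype.ext h'
    obtain ⟨y, ⟨⟨x, hx, hxy⟩, m, hm⟩, hy0⟩ := (Submodule.ne_bot_iff _).1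
      (hess _ h1 (Submodule.map_subtype_le _ _) h2)
    refine (Submodule.ne_bot_iff _).2 ⟨x, ⟨hx, m, Subtype.ext ?_⟩, fun h => hy0 ?_⟩
    · exact hm.trans hxy.symm
    · rw [← hxy, h, map_zero]
  · refine Hull.isStarInj_of_forall (fun N g hg => ?_)
    obtain ⟨h, hh, hhg⟩ := Hull.extend (𝓐 := subGr 𝒥 E) hJ g hg.grHom hg.injective E.subtype
      (isGrHom_subtype 𝒥 E)
    have hhg' : ∀ e : E, h (g e) = e := fun e => LinearMap.congr_fun hhg e
    have hhinj : Function.Injective h :=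
      Ess.injective_of_comp hg (isHomogeneous_ker hh) (by rw [hhg]; exact E.injective_subtype)
    have hrange : LinearMap.range h ∈ C := by
      refine ⟨isHomogeneous_range hh, ?_, ?_⟩
      · rintro _ ⟨m, rfl⟩
        exact ⟨g ⟨f m, hle m⟩, hhg' _⟩
      · intro Q hQ hQh hQ0
        have h1 : (Q.comap h).IsHomogeneous N.gr := isHomogeneous_comap hh hQ
        have h2 : Q.comap h ≠ ⊥ := by
          obtain ⟨y, hy, hy0⟩ := (Submodule.ne_bot_iff _).1 hQ0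
          obtain ⟨x, rfl⟩ := hQh hy
          exact (Submodule.ne_bot_iff _).2 ⟨x, hy, fun h' => hy0 (by rw [h', map_zero])⟩
        obtain ⟨_, ⟨hx, e, rfl⟩, hx0⟩ := (Submodule.ne_bot_iff _).1 (hg.essential _ h1 h2)
        have hx' : (e : J) ∈ Q := by
          rw [← hhg' e]; exact hx
        have h3 := hess (Q ⊓ E) (isHomogeneous_inf 𝒥 hQ hEhom) inf_le_right
          ((Submodule.ne_bot_iff _).2 ⟨e, ⟨hx', e.2⟩, fun h' => hx0 (by
            rw [show e = 0 from Subtype.ext h', map_zero])⟩)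
        exact fun h' => h3 (le_bot_iff.1 (h' ▸ inf_le_inf_right _ inf_le_left))
    have hEr : E ≤ LinearMap.range h := by
      intro e he
      exact ⟨g ⟨e, he⟩, hhg' _⟩
    have hrE := hE.le_of_ge hrange hEr
    intro n
    exact ⟨⟨h n, hrE ⟨n, rfl⟩⟩, hhinj (hhg' _)⟩

variable (𝒜 ℳ) in
/-- Existence of *injective hulls. -/
theorem exists_hull : ∃ (E : GrLC.GMod.{u} 𝒜) (f : M →ₗ[R] E.carrier),
    GrLC.IsStarInjHull 𝒜 ℳ E.gr f := by
  obtain ⟨J, f, hf, hinj, hJ⟩ := Cofree.exists_embedding 𝒜 ℳ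
  obtain ⟨E, hE, hle, h⟩ := exists_hull_sub hJ f hf hinj
  exact ⟨sub 𝒜 J.gr E hE, f.codRestrict E hle, h⟩

variable (𝒜 ℳ) in
/-- Existence of *injective hulls inside an injective module. -/
theorem exists_hull_in (I : Type u) [AddCommGroup I] [Module R I] [Module.Injective R I]
    (e : M →ₗ[R] I) (he : Function.Injective e) :
    ∃ (E : GrLC.GMod.{u} 𝒜) (f : M →ₗ[R] E.carrier), GrLC.IsStarInjHull 𝒜 ℳ E.gr f ∧
      ∃ j : E.carrier →ₗ[R] I, Function.Injective j ∧ j ∘ₗ f = e := by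
  obtain ⟨E, f, hf⟩ := exists_hull 𝒜 ℳ
  obtain ⟨j, hj⟩ := Module.Injective.out f hf.injective e
  have hjf : j ∘ₗ f = e := LinearMap.ext hj
  refine ⟨E, f, hf, j, ?_, hjf⟩
  have hess := Ess.isEssentialInj (𝒜 := 𝒜) hf.toIsStarEss
  exact Groth.Agent.Localalg.InjHull.injective_of_comp hess (by rw [hjf]; exact he)

/-! ## Resolutions -/

section Res

variable (𝒜)

/-- An embedding of a graded module into a *injective one. -/
structure Emb (X : GrLC.GMod.{u} 𝒜) where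
  /-- the target -/
  J : GrLC.GMod.{u} 𝒜
  /-- the embedding -/
  f : X.carrier →ₗ[R] J.carrier
  grHom : GrLC.IsGrHom X.gr J.gr f
  inj : Function.Injective f
  starInj : GrLC.IsStarInj 𝒜 J.gr

/-- A choice of embeddings. -/
noncomputable def emb (X : GrLC.GMod.{u} 𝒜) : Emb 𝒜 X :=
  Classical.choice (by
    obtain ⟨J, f, h1, h2, h3⟩ := Cofree.exists_embedding 𝒜 X.gr
    exact ⟨⟨J, f, h1, h2, h3⟩⟩)

variable {𝒜}

/-- The cokernel of an embedding. -/
noncomputable abbrev Emb.coker {X : GrLC.GMod.{u} 𝒜} (e : Emb 𝒜 X) : GrLC.GMod.{u} 𝒜 :=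
  quo 𝒜 e.J.gr (LinearMap.range e.f) (isHomogeneous_range e.grHom)

/-- The iterated cokernels. -/
noncomputable def cosyz (c : ∀ X : GrLC.GMod.{u} 𝒜, Emb 𝒜 X) (X : GrLC.GMod.{u} 𝒜) :
    ℕ → GrLC.GMod.{u} 𝒜
  | 0 => X
  | n + 1 => (c (cosyz c X n)).coker

/-- The projections to the iterated cokernels. -/
noncomputable def cosyzProj (c : ∀ X : GrLC.GMod.{u} 𝒜, Emb 𝒜 X) (X : GrLC.GMod.{u} 𝒜) (n : ℕ) :
    (c (cosyz c X n)).J.carrier →ₗ[R] (cosyz c X (n + 1)).carrier :=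
  (LinearMap.range (c (cosyz c X n)).f).mkQ

lemma ker_cosyzProj (c : ∀ X : GrLC.GMod.{u} 𝒜, Emb 𝒜 X) (X : GrLC.GMod.{u} 𝒜) (n : ℕ) :
    LinearMap.ker (cosyzProj c X n) = LinearMap.range (c (cosyz c X n)).f :=
  Submodule.ker_mkQ _

lemma cosyzProj_surjective (c : ∀ X : GrLC.GMod.{u} 𝒜, Emb 𝒜 X) (X : GrLC.GMod.{u} 𝒜) (n : ℕ) :
    Function.Surjective (cosyzProj c X n) := Submodule.mkQ_surjective _

lemma cosyzProj_grHom (c : ∀ X : GrLC.GMod.{u} 𝒜, Emb 𝒜 X) (X : GrLC.GMod.{u} 𝒜) (n : ℕ) :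
    GrLC.IsGrHom (c (cosyz c X n)).J.gr (cosyz c X (n + 1)).gr (cosyzProj c X n) :=
  isGrHom_mkQ (c (cosyz c X n)).J.gr (LinearMap.range (c (cosyz c X n)).f)

variable (ℳ) in
/-- The resolution attached to a choice of embeddings. -/
noncomputable def resOf (c : ∀ X : GrLC.GMod.{u} 𝒜, Emb 𝒜 X) : GrLC.StarInjRes 𝒜 ℳ where
  X n := (c (cosyz c (GrLC.GMod.of 𝒜 M ℳ) n)).J
  d n := (c (cosyz c (GrLC.GMod.of 𝒜 M ℳ) (n + 1))).f ∘ₗ cosyzProj c (GrLC.GMod.of 𝒜 M ℳ) n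
  ε := (c (cosyz c (GrLC.GMod.of 𝒜 M ℳ) 0)).f
  d_grHom n := isGrHom_comp (c _).grHom (cosyzProj_grHom c _ n)
  ε_grHom := (c (cosyz c (GrLC.GMod.of 𝒜 M ℳ) 0)).grHom
  ε_injective := (c (cosyz c (GrLC.GMod.of 𝒜 M ℳ) 0)).inj
  exact_zero :=
    (LinearMap.ker_comp_of_ker_eq_bot _ (LinearMap.ker_eq_bot.2 (c _).inj)).trans
      (ker_cosyzProj c _ 0)
  exact_succ n :=
    ((LinearMap.ker_comp_of_ker_eq_bot _ (LinearMap.ker_eq_bot.2 (c _).inj)).trans
      (ker_cosyzProj c _ (n + 1))).trans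
      (LinearMap.range_comp_of_range_eq_top _
        (LinearMap.range_eq_top.2 (cosyzProj_surjective c _ n))).symm
  starInj n := (c _).starInj

variable (𝒜 ℳ) in
/-- Every graded module has a *injective resolution. -/
theorem nonempty_res : Nonempty (GrLC.StarInjRes 𝒜 ℳ) := ⟨resOf ℳ (emb 𝒜)⟩

end Res

end K759.Exist
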