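import Groth.Agent.GrLC.K759.GorLoc
import Groth.Agent.S11175
import Groth.Agent.S0325
import Groth.Agent.Localalg.DepthLC

/-!
# Gorenstein from *injectivity of the top local cohomology
-/

set_option autoImplicit false
set_option linter.unusedSectionVars false
set_option linter.style.haveILetI false
universe u

open DirectSum GrLC K759.Gr K759.GrObj IsLocalRing
open Groth.Agent.Localalg

namespace K759.GorInj

/-- A Cohen–Macaulay local ring with injective top local cohomology is Gorenstein. -/
lemma isGorensteinLocalRing_of_injective (A : Type u) [CommRing A]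
    [hA : LocCoh.IsCohenMacaulayLocalRing A] (n : ℕ) (hn : ringKrullDim A = n)
    (h : Module.Injective A (LocCoh.H (maximalIdeal A) n A)) : LocCoh.IsGorensteinLocalRing A := by
  rw [Groth.Agent.S11175.result]
  refine ⟨n, fun i hi => ?_, h⟩
  rcases lt_or_gt_of_ne hi with hi | hi
  · have h1 : LocCoh.depth A A = (n : ℕ∞) := by
      have h2 := hA.supportDim_eq_depth
      rw [Module.supportDim_self_eq_ringKrullDim, hn] at h2
      have h3 : (((n : ℕ∞) : WithBot ℕ∞)) = ((LocCoh.depth A A : ℕ∞) : WithBot ℕ∞) := h2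
      exact (WithBot.coe_injective h3).symm
    refine DepthLC.subsingleton_H_of_lt_idealDepth _ _ i ?_
    rw [show LocCoh.idealDepth (maximalIdeal A) A = (n : ℕ∞) from h1]
    exact_mod_cast hi
  · exact Groth.Agent.S0325.result A (maximalIdeal A) n hn.le A i hi

variable {ι : Type} [AddCommGroup ι] [DecidableEq ι]
variable {R : Type u} [CommRing R] [IsNoetherianRing R] {𝒜 : ι → AddSubgroup R} [GradedRing 𝒜]

/-- If the top local cohomology at the *maximal ideal of a Cohen–Macaulay *local ring is isomorphic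
(forgetting the grading) to a *injective module, then `R_m` is Gorenstein. -/
theorem isGorensteinLocalRing {m : HomogeneousIdeal 𝒜}
    [m.toIdeal.IsPrime] [LocCoh.IsCohenMacaulayLocalRing (Localization.AtPrime m.toIdeal)] (n : ℕ)
    (hn : m.toIdeal.height = n) {X : Type u} [AddCommGroup X] [Module R X] {𝒳 : ι → AddSubgroup X}
    [DirectSum.Decomposition 𝒳] [SetLike.GradedSMul 𝒜 𝒳] (hX : IsStarInj 𝒜 𝒳)
    (ψ : LocCoh.H m.toIdeal n R ≃ₗ[R] X) :
    LocCoh.IsGorensteinLocalRing (Localization.AtPrime m.toIdeal) := by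
  have hdim : ringKrullDim (Localization.AtPrime m.toIdeal) = n := by
    rw [IsLocalization.AtPrime.ringKrullDim_eq_height m.toIdeal, hn]
    rfl
  refine isGorensteinLocalRing_of_injective _ n hdim ?_
  obtain ⟨e1⟩ := CanLoc.nonempty_locEquiv m.toIdeal.primeCompl ψ
  obtain ⟨e2⟩ := CanLoc.nonempty_lcEquiv m.toIdeal n
  have h1 : Module.Injective (Localization.AtPrime m.toIdeal)
      (LocalizedModule m.toIdeal.primeCompl X) := by
    refine LocHull.injective m.toIdeal (fun x => ?_) (fun f => ?_)
    · obtain ⟨k, hk⟩ := LCIface.isPowerTorsion_H m.toIdeal R n (ψ.symm x)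
      refine ⟨k, fun r hr => ψ.symm.injective ?_⟩
      rw [map_smul, hk r hr, map_zero]
    · obtain ⟨h, hh⟩ := K761.Baer.extend 𝒜 (M := R) (ℳ := 𝒜) hX m.isHomogeneous f
      refine ⟨h 1, fun r => ?_⟩
      rw [← hh, ← map_smul]
      simp
  exact Groth.Agent.Localalg.InjHull.injective_of_equiv h1 (e2.symm ≪≫ₗ e1)

end K759.GorInj
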