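import Groth.Agent.GrLC.K759.Ess

/-!
# *injective modules and hulls: extension, uniqueness, maximal essential extensions
-/

set_option autoImplicit false
set_option linter.unusedSectionVars false
set_option linter.style.haveILetI false
set_option warn.classDefReducibility false
universe u

open DirectSum K759.Gr K759.GrObj

namespace K759.Hull

variable {ι : Type} [AddCommGroup ι] [DecidableEq ι]
variable {R : Type u} [CommRing R] {σ : Type u} [SetLike σ R] [AddSubgroupClass σ R]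
  {𝒜 : ι → σ} [GradedRing 𝒜]

/-- Unbundled form of the extension property, families of additive subgroups. -/
lemma extend {A B I : Type u} [AddCommGroup A] [Module R A] [AddCommGroup B] [Module R B]
    [AddCommGroup I] [Module R I] {𝓐 : ι → AddSubgroup A} {𝓑 : ι → AddSubgroup B}
    {τ : Type u} [SetLike τ I] [AddSubgroupClass τ I] {ℐ : ι → τ}
    [DirectSum.Decomposition 𝓐] [SetLike.GradedSMul 𝒜 𝓐]
    [DirectSum.Decomposition 𝓑] [SetLike.GradedSMul 𝒜 𝓑]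
    [DirectSum.Decomposition ℐ] [SetLike.GradedSMul 𝒜 ℐ]
    (hI : GrLC.IsStarInj 𝒜 ℐ) (f : A →ₗ[R] B) (hf : GrLC.IsGrHom 𝓐 𝓑 f)
    (hinj : Function.Injective f) (g : A →ₗ[R] I) (hg : GrLC.IsGrHom 𝓐 ℐ g) :
    ∃ h : B →ₗ[R] I, GrLC.IsGrHom 𝓑 ℐ h ∧ h ∘ₗ f = g :=
  hI (GrLC.GMod.of 𝒜 A 𝓐) (GrLC.GMod.of 𝒜 B 𝓑) f hf hinj g hg

/-- The extension property when `f` is not injective but `ker f ≤ ker g`. -/
lemma extend_of_ker_le {A B I : Type u} [AddCommGroup A] [Module R A] [AddCommGroup B]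
    [Module R B] [AddCommGroup I] [Module R I] {𝓐 : ι → AddSubgroup A} {𝓑 : ι → AddSubgroup B}
    {τ : Type u} [SetLike τ I] [AddSubgroupClass τ I] {ℐ : ι → τ}
    [DirectSum.Decomposition 𝓐] [SetLike.GradedSMul 𝒜 𝓐]
    [DirectSum.Decomposition 𝓑] [SetLike.GradedSMul 𝒜 𝓑]
    [DirectSum.Decomposition ℐ] [SetLike.GradedSMul 𝒜 ℐ]
    (hI : GrLC.IsStarInj 𝒜 ℐ) (f : A →ₗ[R] B) (hf : GrLC.IsGrHom 𝓐 𝓑 f)
    (g : A →ₗ[R] I) (hg : GrLC.IsGrHom 𝓐 ℐ g) (hker : LinearMap.ker f ≤ LinearMap.ker g) :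
    ∃ h : B →ₗ[R] I, GrLC.IsGrHom 𝓑 ℐ h ∧ h ∘ₗ f = g := by
  have hK := isHomogeneous_ker hf
  letI := quoDec 𝓐 (LinearMap.ker f) hK
  obtain ⟨h, h1, h2⟩ := extend (𝓐 := quoGr 𝓐 (LinearMap.ker f)) (𝓑 := 𝓑) hI
    ((LinearMap.ker f).liftQ f le_rfl)
    (by
      rintro i _ ⟨a, ha, rfl⟩
      exact hf i a ha)
    (by
      rw [← LinearMap.ker_eq_bot, Submodule.ker_liftQ, Submodule.mkQ_map_self])
    ((LinearMap.ker f).liftQ g hker)
    (by
      rintro i _ ⟨a, ha, rfl⟩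
      exact hg i a ha)
  refine ⟨h, h1, ?_⟩
  ext a
  have := LinearMap.congr_fun h2 (Submodule.Quotient.mk a)
  simpa using this

section

variable {M : Type u} [AddCommGroup M] [Module R M] {ℳ : ι → AddSubgroup M}
  [DirectSum.Decomposition ℳ] [SetLike.GradedSMul 𝒜 ℳ]
variable {N : Type u} [AddCommGroup N] [Module R N] {𝒩 : ι → AddSubgroup N}
  [DirectSum.Decomposition 𝒩] [SetLike.GradedSMul 𝒜 𝒩]

/-- A *injective module splits off from any graded module containing it. -/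
lemma exists_retraction (hM : GrLC.IsStarInj 𝒜 ℳ) (f : M →ₗ[R] N) (hf : GrLC.IsGrHom ℳ 𝒩 f)
    (hinj : Function.Injective f) :
    ∃ r : N →ₗ[R] M, GrLC.IsGrHom 𝒩 ℳ r ∧ r ∘ₗ f = LinearMap.id :=
  extend hM f hf hinj LinearMap.id isGrHom_id

/-- A *injective module has no proper *essential extensions. -/
lemma surjective_of_isStarEss (hM : GrLC.IsStarInj 𝒜 ℳ) {f : M →ₗ[R] N}
    (hf : GrLC.IsStarEss ℳ 𝒩 f) : Function.Surjective f := by
  obtain ⟨r, hr, hrf⟩ := exists_retraction hM f hf.grHom hf.injective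
  have hrinj : Function.Injective r :=
    Ess.injective_of_comp hf (isHomogeneous_ker hr) (by rw [hrf]; exact Function.injective_id)
  intro y
  exact ⟨r y, hrinj (LinearMap.congr_fun hrf (r y))⟩

/-- A retract of a *injective module is *injective. -/
lemma isStarInj_of_retract (hN : GrLC.IsStarInj 𝒜 𝒩) (i : M →ₗ[R] N) (hi : GrLC.IsGrHom ℳ 𝒩 i)
    (r : N →ₗ[R] M) (hr : GrLC.IsGrHom 𝒩 ℳ r) (h : r ∘ₗ i = LinearMap.id) :
    GrLC.IsStarInj 𝒜 ℳ := by
  intro A B f hf hinj g hg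
  obtain ⟨h', h1, h2⟩ := hN A B f hf hinj (i ∘ₗ g) (isGrHom_comp hi hg)
  refine ⟨r ∘ₗ h', isGrHom_comp hr h1, ?_⟩
  rw [LinearMap.comp_assoc, h2, ← LinearMap.comp_assoc, h, LinearMap.id_comp]

lemma isStarInj_of_equiv (hN : GrLC.IsStarInj 𝒜 𝒩) (e : M ≃ₗ[R] N)
    (he : GrLC.IsGrHom ℳ 𝒩 e.toLinearMap) : GrLC.IsStarInj 𝒜 ℳ :=
  isStarInj_of_retract hN e.toLinearMap he e.symm.toLinearMap (isGrHom_symm e he) (by
    ext x; simp)

/-- Transfer of *injectivity along a homogeneous isomorphism of arbitrary degree. -/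
lemma isStarInj_shift (hM : GrLC.IsStarInj 𝒜 ℳ) (d : ι) :
    letI := shDec ℳ d
    GrLC.IsStarInj 𝒜 (shGr ℳ d) := by
  letI := shDec ℳ d
  intro A B f hf hinj g hg
  letI := shDec A.gr (-d)
  letI := shDec B.gr (-d)
  obtain ⟨h, h1, h2⟩ := extend (𝓐 := shGr A.gr (-d)) (𝓑 := shGr B.gr (-d)) hM f
    (fun i a ha => hf _ a ha) hinj g
    (fun i a ha => by
      have := hg _ a ha
      rw [mem_shGr, neg_add_cancel_right] at this
      exact this)
  refine ⟨h, fun i b hb => ?_, h2⟩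
  rw [mem_shGr]
  refine h1 (i + d) b ?_
  rw [mem_shGr, add_neg_cancel_right]
  exact hb

/-- In a graded module, a maximal homogeneous submodule disjoint from a given one. -/
lemma exists_maximal_disjoint (A : Submodule R N) :
    ∃ K : Submodule R N, K.IsHomogeneous 𝒩 ∧ K ⊓ A = ⊥ ∧
      ∀ K' : Submodule R N, K'.IsHomogeneous 𝒩 → K' ⊓ A = ⊥ → K ≤ K' → K' = K := by
  obtain ⟨K, hK⟩ := zorn_le₀ {K : Submodule R N | K.IsHomogeneous 𝒩 ∧ K ⊓ A = ⊥} (by
    intro c hc hchain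
    rcases c.eq_empty_or_nonempty with rfl | hne
    · exact ⟨⊥, ⟨isHomogeneous_bot 𝒩, bot_inf_eq _⟩, fun _ h => absurd h (Set.notMem_empty _)⟩
    refine ⟨sSup c, ⟨isHomogeneous_sSup 𝒩 (fun P hP => (hc hP).1), ?_⟩, fun P hP => le_sSup hP⟩
    rw [eq_bot_iff]
    rintro x ⟨hx, hxA⟩
    obtain ⟨P, hP, hxP⟩ := (Submodule.mem_sSup_of_directed hne hchain.directedOn).1 hx
    have := (hc hP).2
    rw [← this]
    exact ⟨hxP, hxA⟩)
  exact ⟨K, hK.prop.1, hK.prop.2, fun K' h1 h2 h3 => le_antisymm (hK.le_of_ge ⟨h1, h2⟩ h3) h3⟩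

/-- Any homogeneous injection becomes *essential after passing to a suitable quotient. -/
lemma exists_isStarEss_quotient (f : M →ₗ[R] N) (hf : GrLC.IsGrHom ℳ 𝒩 f)
    (hinj : Function.Injective f) :
    ∃ (K : Submodule R N) (hK : K.IsHomogeneous 𝒩),
      letI := quoDec 𝒩 K hK
      GrLC.IsStarEss ℳ (quoGr 𝒩 K) (K.mkQ ∘ₗ f) := by
  obtain ⟨K, hK, hdis, hmax⟩ := exists_maximal_disjoint (𝒩 := 𝒩) (LinearMap.range f)
  letI := quoDec 𝒩 K hK
  refine ⟨K, hK, ?_⟩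
  constructor
  · rw [← LinearMap.ker_eq_bot, eq_bot_iff]
    intro m hm
    rw [LinearMap.mem_ker, LinearMap.comp_apply, ← LinearMap.mem_ker, Submodule.ker_mkQ] at hm
    have : f m ∈ K ⊓ LinearMap.range f := ⟨hm, m, rfl⟩
    rw [hdis, Submodule.mem_bot] at this
    rw [Submodule.mem_bot]
    exact hinj (by rw [this, map_zero])
  · exact isGrHom_comp (isGrHom_mkQ 𝒩 K) hf
  · intro P hP hP0
    have hP' : (P.comap K.mkQ).IsHomogeneous 𝒩 := isHomogeneous_comap (isGrHom_mkQ 𝒩 K) hP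
    have hle : K ≤ P.comap K.mkQ := by
      intro x hx
      rw [Submodule.mem_comap]
      have : K.mkQ x = 0 := by rwa [← LinearMap.mem_ker, Submodule.ker_mkQ]
      rw [this]; exact P.zero_mem
    have hne : P.comap K.mkQ ⊓ LinearMap.range f ≠ ⊥ := by
      intro h
      have heq := hmax _ hP' h hle
      apply hP0
      rw [eq_bot_iff]
      intro y hy
      obtain ⟨x, rfl⟩ := K.mkQ_surjective y
      have : x ∈ K := heq ▸ hy
      rw [Submodule.mem_bot, ← LinearMap.mem_ker, Submodule.ker_mkQ]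
      exact this
    obtain ⟨x, ⟨hx, m, rfl⟩, hx0⟩ := (Submodule.ne_bot_iff _).1 hne
    refine (Submodule.ne_bot_iff _).2 ⟨K.mkQ (f m), ⟨hx, m, rfl⟩, fun h => hx0 ?_⟩
    rw [← LinearMap.mem_ker, Submodule.ker_mkQ] at h
    have : f m ∈ K ⊓ LinearMap.range f := ⟨h, m, rfl⟩
    rwa [hdis, Submodule.mem_bot] at this

/-- A graded module without proper *essential extensions is *injective. -/
theorem isStarInj_of_forall (hM : ∀ (N : GrLC.GMod.{u} 𝒜) (f : M →ₗ[R] N.carrier),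
    GrLC.IsStarEss ℳ N.gr f → Function.Surjective f) : GrLC.IsStarInj 𝒜 ℳ := by
  intro A B f hf hinj g hg
  -- the pushout
  letI := prodDec (M := M) (N := B.carrier) ℳ B.gr
  let φ : A.carrier →ₗ[R] M × B.carrier := g.prod (-f)
  have hφ : GrLC.IsGrHom A.gr (prodGr ℳ B.gr) φ := fun i a ha => ⟨hg i a ha, by
    change (-f) a ∈ B.gr i
    rw [LinearMap.neg_apply]
    exact neg_mem (hf i a ha)⟩
  let S := LinearMap.range φ
  have hS : S.IsHomogeneous (prodGr ℳ B.gr) := isHomogeneous_range hφ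
  letI := quoDec (prodGr ℳ B.gr) S hS
  let i : M →ₗ[R] (M × B.carrier) ⧸ S := S.mkQ ∘ₗ LinearMap.inl R M B.carrier
  let j : B.carrier →ₗ[R] (M × B.carrier) ⧸ S := S.mkQ ∘ₗ LinearMap.inr R M B.carrier
  have hi : GrLC.IsGrHom ℳ (quoGr (prodGr ℳ B.gr) S) i :=
    isGrHom_comp (isGrHom_mkQ _ S) (isGrHom_inl ℳ B.gr)
  have hj : GrLC.IsGrHom B.gr (quoGr (prodGr ℳ B.gr) S) j :=
    isGrHom_comp (isGrHom_mkQ _ S) (isGrHom_inr ℳ B.gr)
  have hij : ∀ a, i (g a) = j (f a) := by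
    intro a
    rw [← sub_eq_zero]
    change S.mkQ _ - S.mkQ _ = 0
    rw [← map_sub, ← LinearMap.mem_ker, Submodule.ker_mkQ]
    refine ⟨a, ?_⟩
    refine Prod.ext ?_ ?_
    · simp [φ]
    · simp [φ]
  have hiinj : Function.Injective i := by
    rw [← LinearMap.ker_eq_bot, eq_bot_iff]
    intro m hm
    rw [LinearMap.mem_ker] at hm
    change S.mkQ _ = 0 at hm
    rw [← LinearMap.mem_ker, Submodule.ker_mkQ] at hm
    obtain ⟨a, ha⟩ := hm
    have h2 : -f a = 0 := by simpa [φ] using congrArg Prod.snd ha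
    have h1 : g a = m := by simpa [φ] using congrArg Prod.fst ha
    have h3 : a = 0 := hinj (by rw [map_zero]; exact neg_eq_zero.1 h2)
    rw [h3, map_zero] at h1
    rw [Submodule.mem_bot, ← h1]
  obtain ⟨K, hK, hess⟩ := exists_isStarEss_quotient (𝒩 := quoGr (prodGr ℳ B.gr) S) i hi hiinj
  letI := quoDec (quoGr (prodGr ℳ B.gr) S) K hK
  have hsurj := hM (GrLC.GMod.of 𝒜 _ (quoGr (quoGr (prodGr ℳ B.gr) S) K)) (K.mkQ ∘ₗ i) hess
  let e := LinearEquiv.ofBijective (K.mkQ ∘ₗ i) ⟨hess.injective, hsurj⟩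
  have he : GrLC.IsGrHom ℳ (quoGr (quoGr (prodGr ℳ B.gr) S) K) e.toLinearMap := hess.grHom
  refine ⟨e.symm.toLinearMap ∘ₗ K.mkQ ∘ₗ j,
    isGrHom_comp (isGrHom_symm e he) (isGrHom_comp (isGrHom_mkQ _ K) hj), ?_⟩
  ext a
  change e.symm (K.mkQ (j (f a))) = g a
  rw [← hij, LinearEquiv.symm_apply_eq]
  rfl

end

section

variable {M : Type u} [AddCommGroup M] [Module R M] {ℳ : ι → AddSubgroup M}
variable {E₁ : Type u} [AddCommGroup E₁] [Module R E₁] {𝓔₁ : ι → AddSubgroup E₁}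
  [DirectSum.Decomposition 𝓔₁] [SetLike.GradedSMul 𝒜 𝓔₁]
variable {E₂ : Type u} [AddCommGroup E₂] [Module R E₂] {𝓔₂ : ι → AddSubgroup E₂}
  [DirectSum.Decomposition 𝓔₂] [SetLike.GradedSMul 𝒜 𝓔₂]

/-- Uniqueness of *injective hulls; the source needs a decomposition and the graded structure. -/
theorem hull_unique [DirectSum.Decomposition ℳ] [SetLike.GradedSMul 𝒜 ℳ]
    {f₁ : M →ₗ[R] E₁} {f₂ : M →ₗ[R] E₂}
    (h₁ : GrLC.IsStarInjHull 𝒜 ℳ 𝓔₁ f₁) (h₂ : GrLC.IsStarInjHull 𝒜 ℳ 𝓔₂ f₂) :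
    ∃ β : E₁ ≃ₗ[R] E₂, GrLC.IsGrHom 𝓔₁ 𝓔₂ β.toLinearMap ∧ β.toLinearMap ∘ₗ f₁ = f₂ := by
  obtain ⟨h, hh, hf⟩ := extend h₂.starInj f₁ h₁.grHom h₁.injective f₂ h₂.grHom
  have hinj : Function.Injective h :=
    Ess.injective_of_comp h₁.toIsStarEss (isHomogeneous_ker hh) (by rw [hf]; exact h₂.injective)
  obtain ⟨r, hr, hrh⟩ := exists_retraction h₁.starInj h hh hinj
  have hrinj : Function.Injective r :=
    Ess.injective_of_comp h₂.toIsStarEss (isHomogeneous_ker hr) (by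
      rw [← hf, ← LinearMap.comp_assoc, hrh, LinearMap.id_comp]; exact h₁.injective)
  have hsurj : Function.Surjective h := fun y => ⟨r y, hrinj (LinearMap.congr_fun hrh (r y))⟩
  exact ⟨LinearEquiv.ofBijective h ⟨hinj, hsurj⟩, hh, hf⟩

end

end K759.Hull
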