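import Groth.Agent.S13233
import Groth.Agent.S0340
import Groth.Agent.FiltBl.K830.ExtReesGor
import Groth.Agent.GrLC.K759.CanLoc
import Groth.Agent.GrLC.K759.StarE

/-!
# A *local graded ring is Gorenstein as soon as its localization at the *maximal ideal is
-/

set_option autoImplicit false
set_option linter.unusedSectionVars false
set_option linter.style.haveILetI false
universe u

open DirectSum GrLC K759.Gr K759.GrObj IsLocalRing CategoryTheory Abelian

namespace K759.GorLoc

/-- transfer of vanishing of Ext along an isomorphism in the second variable -/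
lemma ext_subsingleton_iff {A : Type u} [CommRing A] (K M N : Type u) [AddCommGroup K] [Module A K]
    [AddCommGroup M] [Module A M] [AddCommGroup N] [Module A N] (e : M ≃ₗ[A] N) (i : ℕ)
    (h : Subsingleton (Ext.{u} (ModuleCat.of A K) (ModuleCat.of A M) i)) :
    Subsingleton (Ext.{u} (ModuleCat.of A K) (ModuleCat.of A N) i) := by
  refine subsingleton_of_forall_eq 0 fun x => ?_
  have h1 : (x.comp (Ext.mk₀ e.toModuleIso.inv) (add_zero i)) = 0 := Subsingleton.elim _ _
  have h2 : (x.comp (Ext.mk₀ e.toModuleIso.inv) (add_zero i)).comp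
      (Ext.mk₀ e.toModuleIso.hom) (add_zero i) = x := by
    rw [Ext.comp_assoc_of_third_deg_zero, Ext.mk₀_comp_mk₀, Iso.inv_hom_id, Ext.comp_mk₀_id]
  rw [← h2, h1, Ext.zero_comp]

/-- Over a local ring: all high Bass numbers of `R_p` vanish iff `R_p` is Gorenstein. -/
lemma bassNum_eq_zero_iff {R : Type u} [CommRing R] (p : Ideal R) [p.IsPrime] (i : ℕ) :
    bassNum p R i = 0 ↔ Subsingleton (Ext.{u} (ModuleCat.of (Localization.AtPrime p)
      (ResidueField (Localization.AtPrime p)))
      (ModuleCat.of (Localization.AtPrime p) (Localization.AtPrime p)) i) := by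
  obtain ⟨e⟩ := CanLoc.nonempty_selfEquiv p.primeCompl
  refine Iff.trans Module.length_eq_zero_iff ?_
  exact ⟨ext_subsingleton_iff _ _ _ e i, ext_subsingleton_iff _ _ _ e.symm i⟩

variable {ι : Type} [AddCommGroup ι] [DecidableEq ι] [Module.Free ℤ ι] [Module.Finite ℤ ι]
variable {R : Type u} [CommRing R] [IsNoetherianRing R] {𝒜 : ι → AddSubgroup R} [GradedRing 𝒜]

/-- Gorenstein at the homogeneous core implies Gorenstein. -/
theorem isGorensteinLocalRing_of_core (p : Ideal R) [p.IsPrime]
    [hQ : (p.homogeneousCore 𝒜).toIdeal.IsPrime]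
    (hG : LocCoh.IsGorensteinLocalRing (Localization.AtPrime (p.homogeneousCore 𝒜).toIdeal)) :
    LocCoh.IsGorensteinLocalRing (Localization.AtPrime p) := by
  have hnt : IsNoetherianRing (Localization.AtPrime p) :=
    IsLocalization.isNoetherianRing p.primeCompl _ inferInstance
  have hntQ : IsNoetherianRing (Localization.AtPrime (p.homogeneousCore 𝒜).toIdeal) :=
    IsLocalization.isNoetherianRing (p.homogeneousCore 𝒜).toIdeal.primeCompl _ inferInstance
  rw [Groth.Agent.S0340.result] at hG ⊢
  obtain ⟨N, hN⟩ := hG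
  have hle : (p.homogeneousCore 𝒜).toIdeal ≤ p := Ideal.toIdeal_homogeneousCore_le 𝒜 p
  have hpp : (p.map (Ideal.Quotient.mk (p.homogeneousCore 𝒜).toIdeal)).IsPrime :=
    Ideal.map_isPrime_of_surjective Ideal.Quotient.mk_surjective (by
      rw [Ideal.mk_ker]; exact hle)
  have hfin : (p.map (Ideal.Quotient.mk (p.homogeneousCore 𝒜).toIdeal)).height ≠ ⊤ :=
    Ideal.height_ne_top hpp.ne_top
  obtain ⟨d, hd⟩ := ENat.ne_top_iff_exists.1 hfin
  obtain ⟨-, h2⟩ := Groth.Agent.S13233.result R 𝒜 R 𝒜 p d hd.symm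
  refine ⟨d + N, fun i hi => ?_⟩
  rw [← bassNum_eq_zero_iff, h2 i (by omega), bassNum_eq_zero_iff]
  exact hN (i - d) (by omega)

/-- `R_m` Gorenstein implies `R` Gorenstein, `(R, m)` *local. -/
theorem isGorensteinRing {m : HomogeneousIdeal 𝒜} (hm : IsStarLocal 𝒜 m) [m.toIdeal.IsPrime]
    (hG : LocCoh.IsGorensteinLocalRing (Localization.AtPrime m.toIdeal)) :
    LocCoh.IsGorensteinRing R where
  isGorensteinLocalRing_localization p hp := by
    have hQ : (p.homogeneousCore 𝒜).toIdeal.IsPrime := Prime.isPrime_homogeneousCore hp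
    refine isGorensteinLocalRing_of_core (𝒜 := 𝒜) p ?_
    refine K830.ExtRees.gor_of_le m.toIdeal _ ?_ hG
    exact K761.StarLoc.le_of_isHomogeneous hm (p.homogeneousCore 𝒜).isHomogeneous hQ.ne_top

end K759.GorLoc
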