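import Groth.Prelude.Def_GrLC

/-!
# Elementary toolkit for graded modules

Gradings on submodules, quotients, products, shifts; calculus of homogeneous maps.
-/

set_option autoImplicit false
set_option linter.unusedSectionVars false
set_option linter.style.haveILetI false
set_option warn.classDefReducibility false
universe u

open DirectSum

namespace K759.Gr

variable {ι : Type} [AddCommGroup ι] [DecidableEq ι]

/-! ## A constructor for decompositions -/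

section Ctor

variable {M : Type u} [AddCommGroup M] {τ : Type u} [SetLike τ M] [AddSubgroupClass τ M]

/-- Build a decomposition out of component maps. -/
noncomputable def mkDecomp (ℳ : ι → τ) (c : ι → M →+ M) (hc : ∀ i x, c i x ∈ ℳ i)
    (hfin : ∀ x, ∃ s : Finset ι, (∀ i, i ∉ s → c i x = 0) ∧ ∑ i ∈ s, c i x = x)
    (hsame : ∀ i x, x ∈ ℳ i → c i x = x) (hne : ∀ i j x, i ≠ j → x ∈ ℳ i → c j x = 0) :
    DirectSum.Decomposition ℳ where
  decompose' x := ∑ i ∈ (hfin x).choose, DirectSum.of (fun i => ℳ i) i ⟨c i x, hc i x⟩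
  left_inv x := by
    rw [map_sum]
    simp only [DirectSum.coeAddMonoidHom_of]
    exact (hfin x).choose_spec.2
  right_inv y := by
    have key : ∀ (y : ⨁ i, ℳ i) (j : ι), c j (DirectSum.coeAddMonoidHom ℳ y) = (y j : M) := by
      intro y j
      induction y using DirectSum.induction_on with
      | zero => simp
      | of i m =>
        rw [DirectSum.coeAddMonoidHom_of]
        by_cases h : i = j
        · subst h
          rw [hsame _ _ m.2, DirectSum.of_eq_same]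
        · rw [hne i j _ h m.2, DirectSum.of_eq_of_ne _ _ _ (Ne.symm h)]
          rfl
      | add a b ha hb =>
        rw [map_add, map_add, ha, hb, DirectSum.add_apply]
        rfl
    ext j
    rw [← key y j]
    generalize DirectSum.coeAddMonoidHom ℳ y = x
    rw [DFinsupp.finsetSum_apply]
    by_cases hj : j ∈ (hfin x).choose
    · rw [Finset.sum_eq_single j]
      · exact congrArg Subtype.val (DirectSum.of_eq_same (β := fun i => ℳ i) j ⟨c j x, hc j x⟩)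
      · intro b _ hb
        exact DirectSum.of_eq_of_ne _ _ _ (Ne.symm hb)
      · intro h; exact absurd hj h
    · rw [Finset.sum_eq_zero]
      · rw [(hfin x).choose_spec.1 j hj]; rfl
      · intro b hb
        exact DirectSum.of_eq_of_ne _ _ _ (fun h => hj (h ▸ hb))

end Ctor

/-! ## Components -/

section Comp

variable {M : Type u} [AddCommGroup M] {τ : Type u} [SetLike τ M] [AddSubgroupClass τ M]
  (ℳ : ι → τ) [DirectSum.Decomposition ℳ]

/-- The `i`-th component as an additive map. -/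
noncomputable def cmp (i : ι) : M →+ M where
  toFun x := (decompose ℳ x i : M)
  map_zero' := by simp
  map_add' x y := by simp

lemma cmp_apply (i : ι) (x : M) : cmp ℳ i x = (decompose ℳ x i : M) := rfl

lemma cmp_mem (i : ι) (x : M) : cmp ℳ i x ∈ ℳ i := (decompose ℳ x i).2

lemma cmp_same {i : ι} {x : M} (hx : x ∈ ℳ i) : cmp ℳ i x = x := decompose_of_mem_same ℳ hx

lemma cmp_ne {i j : ι} (h : i ≠ j) {x : M} (hx : x ∈ ℳ i) : cmp ℳ j x = 0 :=
  decompose_of_mem_ne ℳ hx h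

lemma cmp_of_mem {i j : ι} {x : M} (hx : x ∈ ℳ i) : cmp ℳ j x = if i = j then x else 0 := by
  split_ifs with h
  · subst h; exact cmp_same ℳ hx
  · exact cmp_ne ℳ h hx

open Classical in
/-- The finite set of degrees of the nonzero components. -/
noncomputable def supp (x : M) : Finset ι := (decompose ℳ x).support

lemma mem_supp {x : M} {i : ι} : i ∈ supp ℳ x ↔ cmp ℳ i x ≠ 0 := by
  classical
  simp only [supp, DFinsupp.mem_support_toFun, cmp_apply, ne_eq, ZeroMemClass.coe_eq_zero]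

lemma sum_cmp (x : M) : ∑ i ∈ supp ℳ x, cmp ℳ i x = x := by
  classical
  exact sum_support_decompose ℳ x

lemma cmp_eq_zero_of_notMem {x : M} {i : ι} (h : i ∉ supp ℳ x) : cmp ℳ i x = 0 := by
  by_contra h'
  exact h ((mem_supp ℳ).2 h')

lemma sum_cmp_of_subset {x : M} {s : Finset ι} (h : supp ℳ x ⊆ s) :
    ∑ i ∈ s, cmp ℳ i x = x := by
  rw [← Finset.sum_subset h, sum_cmp]
  intro i _ hi
  exact cmp_eq_zero_of_notMem ℳ hi

lemma exists_sum (x : M) :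
    ∃ s : Finset ι, (∀ i, i ∉ s → cmp ℳ i x = 0) ∧ ∑ i ∈ s, cmp ℳ i x = x :=
  ⟨supp ℳ x, fun _ h => cmp_eq_zero_of_notMem ℳ h, sum_cmp ℳ x⟩

lemma ext_cmp {x y : M} (h : ∀ i, cmp ℳ i x = cmp ℳ i y) : x = y := by
  have : decompose ℳ x = decompose ℳ y := by
    ext i
    exact h i
  exact (decompose ℳ).injective this

lemma eq_zero_of_cmp {x : M} (h : ∀ i, cmp ℳ i x = 0) : x = 0 :=
  ext_cmp ℳ (fun i => by rw [h i, map_zero])

lemma exists_cmp_ne_zero {x : M} (h : x ≠ 0) : ∃ i, cmp ℳ i x ≠ 0 := by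
  by_contra hh
  push Not at hh
  exact h (eq_zero_of_cmp ℳ hh)

lemma cmp_cmp (i j : ι) (x : M) : cmp ℳ j (cmp ℳ i x) = if i = j then cmp ℳ i x else 0 :=
  cmp_of_mem ℳ (cmp_mem ℳ i x)

/-- Uniqueness of components. -/
lemma cmp_sum_eq (s : Finset ι) (f : ι → M) (hf : ∀ i, i ∈ s → f i ∈ ℳ i) (j : ι) :
    cmp ℳ j (∑ i ∈ s, f i) = if j ∈ s then f j else 0 := by
  rw [map_sum]
  by_cases hj : j ∈ s
  · rw [if_pos hj, Finset.sum_eq_single j]
    · exact cmp_same ℳ (hf j hj)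
    · intro b hb hbj
      exact cmp_ne ℳ hbj (hf b hb)
    · intro h; exact absurd hj h
  · rw [if_neg hj]
    refine Finset.sum_eq_zero (fun b hb => cmp_ne ℳ ?_ (hf b hb))
    rintro rfl; exact hj hb

end Comp

section Ring

variable {R : Type u} [CommRing R] {σ : Type u} [SetLike σ R] [AddSubgroupClass σ R]
  (𝒜 : ι → σ) [GradedRing 𝒜]
variable {M : Type u} [AddCommGroup M] [Module R M] {τ : Type u} [SetLike τ M]
  [AddSubgroupClass τ M] (ℳ : ι → τ)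

include 𝒜 in
lemma smul_mem [SetLike.GradedSMul 𝒜 ℳ] {i j : ι} {r : R} (hr : r ∈ 𝒜 i) {m : M}
    (hm : m ∈ ℳ j) : r • m ∈ ℳ (i + j) := by
  have h := SetLike.GradedSMul.smul_mem (A := 𝒜) (B := ℳ) hr hm
  rwa [vadd_eq_add] at h

variable [DirectSum.Decomposition ℳ]

include 𝒜 in
lemma cmp_smul [SetLike.GradedSMul 𝒜 ℳ] {i : ι} {r : R} (hr : r ∈ 𝒜 i) (j : ι) (m : M) :
    cmp ℳ (i + j) (r • m) = r • cmp ℳ j m := by
  conv_lhs => rw [← sum_cmp ℳ m]
  rw [Finset.smul_sum, map_sum]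
  by_cases hj : j ∈ supp ℳ m
  · rw [Finset.sum_eq_single j]
    · exact cmp_same ℳ (smul_mem 𝒜 ℳ hr (cmp_mem ℳ j m))
    · intro b _ hb
      exact cmp_ne ℳ (fun h => hb (add_left_cancel h)) (smul_mem 𝒜 ℳ hr (cmp_mem ℳ b m))
    · intro h; exact absurd hj h
  · rw [cmp_eq_zero_of_notMem ℳ hj, smul_zero]
    refine Finset.sum_eq_zero (fun b hb => ?_)
    exact cmp_ne ℳ (fun h => hj (by rw [← add_left_cancel h]; exact hb))
      (smul_mem 𝒜 ℳ hr (cmp_mem ℳ b m))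

include 𝒜 in
lemma cmp_smul' [SetLike.GradedSMul 𝒜 ℳ] {i : ι} {r : R} (hr : r ∈ 𝒜 i) (j : ι) (m : M) :
    cmp ℳ j (r • m) = r • cmp ℳ (j - i) m := by
  have := cmp_smul 𝒜 ℳ hr (j - i) m
  rwa [add_sub_cancel] at this

/-- A submodule is homogeneous if it contains the components of its elements. -/
lemma isHomogeneous_iff (P : Submodule R M) :
    P.IsHomogeneous ℳ ↔ ∀ i x, x ∈ P → cmp ℳ i x ∈ P := Iff.rfl

lemma mem_of_cmp (P : Submodule R M) {x : M} (h : ∀ i, cmp ℳ i x ∈ P) : x ∈ P := by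
  rw [← sum_cmp ℳ x]
  exact P.sum_mem (fun i _ => h i)

include 𝒜 in
/-- A span of homogeneous elements is homogeneous. -/
lemma isHomogeneous_span [SetLike.GradedSMul 𝒜 ℳ] (S : Set M)
    (hS : ∀ x ∈ S, ∃ i, x ∈ ℳ i) : (Submodule.span R S).IsHomogeneous ℳ := by
  intro i x hx
  change cmp ℳ i x ∈ _
  induction hx using Submodule.span_induction generalizing i with
  | mem x hx =>
    obtain ⟨j, hj⟩ := hS x hx
    rw [cmp_of_mem ℳ hj]
    split_ifs
    · exact Submodule.subset_span hx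
    · exact Submodule.zero_mem _
  | zero => rw [map_zero]; exact Submodule.zero_mem _
  | add x y _ _ hx hy => rw [map_add]; exact Submodule.add_mem _ (hx i) (hy i)
  | smul r x _ hx =>
    rw [← sum_cmp 𝒜 r, Finset.sum_smul, map_sum]
    refine Submodule.sum_mem _ (fun j _ => ?_)
    rw [cmp_smul' 𝒜 ℳ (cmp_mem 𝒜 j r)]
    exact Submodule.smul_mem _ _ (hx _)

lemma isHomogeneous_inf {P Q : Submodule R M} (hP : P.IsHomogeneous ℳ)
    (hQ : Q.IsHomogeneous ℳ) : (P ⊓ Q).IsHomogeneous ℳ :=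
  fun i _ hx => ⟨hP i hx.1, hQ i hx.2⟩

lemma isHomogeneous_sup {P Q : Submodule R M} (hP : P.IsHomogeneous ℳ)
    (hQ : Q.IsHomogeneous ℳ) : (P ⊔ Q).IsHomogeneous ℳ := by
  intro i x hx
  change cmp ℳ i x ∈ _
  obtain ⟨p, hp, q, hq, rfl⟩ := Submodule.mem_sup.1 hx
  rw [map_add]
  exact Submodule.add_mem_sup (hP i hp) (hQ i hq)

lemma isHomogeneous_bot : (⊥ : Submodule R M).IsHomogeneous ℳ := by
  intro i x hx
  rw [Submodule.mem_bot] at hx
  change cmp ℳ i x ∈ _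
  rw [hx, map_zero]; exact Submodule.zero_mem _

lemma isHomogeneous_top : (⊤ : Submodule R M).IsHomogeneous ℳ := fun _ _ _ => Submodule.mem_top

lemma isHomogeneous_sSup {S : Set (Submodule R M)} (hS : ∀ P ∈ S, P.IsHomogeneous ℳ) :
    (sSup S).IsHomogeneous ℳ := by
  intro i x hx
  change cmp ℳ i x ∈ _
  rw [sSup_eq_iSup'] at hx ⊢
  induction hx using Submodule.iSup_induction' with
  | mem p x hx => exact Submodule.mem_iSup_of_mem p (hS p.1 p.2 i hx)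
  | zero => rw [map_zero]; exact Submodule.zero_mem _
  | add x y _ _ hx hy => rw [map_add]; exact Submodule.add_mem _ hx hy

/-- A nonzero homogeneous submodule contains a nonzero homogeneous element. -/
lemma exists_homogeneous_mem {P : Submodule R M} (hP : P.IsHomogeneous ℳ) (h : P ≠ ⊥) :
    ∃ i, ∃ x ∈ P, x ∈ ℳ i ∧ x ≠ 0 := by
  obtain ⟨x, hx, hx0⟩ := (Submodule.ne_bot_iff P).1 h
  obtain ⟨i, hi⟩ := exists_cmp_ne_zero ℳ hx0
  exact ⟨i, cmp ℳ i x, hP i hx, cmp_mem ℳ i x, hi⟩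

end Ring

/-! ## Homogeneous maps -/

section Hom

variable {R : Type u} [CommRing R]
variable {M : Type u} [AddCommGroup M] [Module R M] {τ : Type u} [SetLike τ M]
  [AddSubgroupClass τ M] {ℳ : ι → τ} [DirectSum.Decomposition ℳ]
variable {N : Type u} [AddCommGroup N] [Module R N] {τ' : Type u} [SetLike τ' N]
  [AddSubgroupClass τ' N] {𝒩 : ι → τ'} [DirectSum.Decomposition 𝒩]

lemma cmp_mapDeg {f : M →ₗ[R] N} {d : ι} (hf : GrLC.IsGrHomDeg ℳ 𝒩 f d) (i : ι) (x : M) :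
    cmp 𝒩 (i + d) (f x) = f (cmp ℳ i x) := by
  conv_lhs => rw [← sum_cmp ℳ x]
  rw [map_sum, map_sum]
  by_cases hj : i ∈ supp ℳ x
  · rw [Finset.sum_eq_single i]
    · exact cmp_same 𝒩 (hf _ _ (cmp_mem ℳ i x))
    · intro b _ hb
      exact cmp_ne 𝒩 (fun h => hb (add_right_cancel h)) (hf _ _ (cmp_mem ℳ b x))
    · intro h; exact absurd hj h
  · rw [cmp_eq_zero_of_notMem ℳ hj, map_zero]
    refine Finset.sum_eq_zero (fun b hb => ?_)
    exact cmp_ne 𝒩 (fun h => hj (by rw [← add_right_cancel h]; exact hb))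
      (hf _ _ (cmp_mem ℳ b x))

omit [DecidableEq ι] [AddSubgroupClass τ M] [AddSubgroupClass τ' N]
  [DirectSum.Decomposition ℳ] [DirectSum.Decomposition 𝒩] in
lemma isGrHomDeg_zero_iff {f : M →ₗ[R] N} :
    GrLC.IsGrHomDeg ℳ 𝒩 f 0 ↔ GrLC.IsGrHom ℳ 𝒩 f := by
  simp only [GrLC.IsGrHomDeg, GrLC.IsGrHom, add_zero]

lemma cmp_map {f : M →ₗ[R] N} (hf : GrLC.IsGrHom ℳ 𝒩 f) (i : ι) (x : M) :
    cmp 𝒩 i (f x) = f (cmp ℳ i x) := by
  have := cmp_mapDeg (isGrHomDeg_zero_iff.2 hf) i x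
  rwa [add_zero] at this

lemma isHomogeneous_kerDeg {f : M →ₗ[R] N} {d : ι} (hf : GrLC.IsGrHomDeg ℳ 𝒩 f d) :
    (LinearMap.ker f).IsHomogeneous ℳ := by
  intro i x hx
  change cmp ℳ i x ∈ _
  rw [LinearMap.mem_ker] at hx ⊢
  rw [← cmp_mapDeg hf, hx, map_zero]

lemma isHomogeneous_ker {f : M →ₗ[R] N} (hf : GrLC.IsGrHom ℳ 𝒩 f) :
    (LinearMap.ker f).IsHomogeneous ℳ := isHomogeneous_kerDeg (isGrHomDeg_zero_iff.2 hf)

lemma isHomogeneous_mapDeg {f : M →ₗ[R] N} {d : ι} (hf : GrLC.IsGrHomDeg ℳ 𝒩 f d)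
    {P : Submodule R M} (hP : P.IsHomogeneous ℳ) : (P.map f).IsHomogeneous 𝒩 := by
  rintro i _ ⟨x, hx, rfl⟩
  change cmp 𝒩 i (f x) ∈ _
  have := cmp_mapDeg hf (i - d) x
  rw [sub_add_cancel] at this
  rw [this]
  exact ⟨_, hP _ hx, rfl⟩

lemma isHomogeneous_map {f : M →ₗ[R] N} (hf : GrLC.IsGrHom ℳ 𝒩 f)
    {P : Submodule R M} (hP : P.IsHomogeneous ℳ) : (P.map f).IsHomogeneous 𝒩 :=
  isHomogeneous_mapDeg (isGrHomDeg_zero_iff.2 hf) hP

lemma isHomogeneous_rangeDeg {f : M →ₗ[R] N} {d : ι} (hf : GrLC.IsGrHomDeg ℳ 𝒩 f d) :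
    (LinearMap.range f).IsHomogeneous 𝒩 := by
  rw [LinearMap.range_eq_map]
  exact isHomogeneous_mapDeg hf (isHomogeneous_top ℳ)

lemma isHomogeneous_range {f : M →ₗ[R] N} (hf : GrLC.IsGrHom ℳ 𝒩 f) :
    (LinearMap.range f).IsHomogeneous 𝒩 := isHomogeneous_rangeDeg (isGrHomDeg_zero_iff.2 hf)

lemma isHomogeneous_comapDeg {f : M →ₗ[R] N} {d : ι} (hf : GrLC.IsGrHomDeg ℳ 𝒩 f d)
    {P : Submodule R N} (hP : P.IsHomogeneous 𝒩) : (P.comap f).IsHomogeneous ℳ := by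
  intro i x hx
  change f (cmp ℳ i x) ∈ P
  rw [← cmp_mapDeg hf]
  exact hP _ hx

lemma isHomogeneous_comap {f : M →ₗ[R] N} (hf : GrLC.IsGrHom ℳ 𝒩 f)
    {P : Submodule R N} (hP : P.IsHomogeneous 𝒩) : (P.comap f).IsHomogeneous ℳ :=
  isHomogeneous_comapDeg (isGrHomDeg_zero_iff.2 hf) hP

/-- If `f` is injective and homogeneous, then it reflects degrees. -/
lemma mem_of_map_memDeg {f : M →ₗ[R] N} {d : ι} (hf : GrLC.IsGrHomDeg ℳ 𝒩 f d)
    (hinj : Function.Injective f) {i : ι} {x : M} (hx : f x ∈ 𝒩 (i + d)) : x ∈ ℳ i := by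
  have : cmp ℳ i x = x := hinj (by rw [← cmp_mapDeg hf, cmp_same 𝒩 hx])
  rw [← this]
  exact cmp_mem ℳ i x

lemma mem_of_map_mem {f : M →ₗ[R] N} (hf : GrLC.IsGrHom ℳ 𝒩 f)
    (hinj : Function.Injective f) {i : ι} {x : M} (hx : f x ∈ 𝒩 i) : x ∈ ℳ i :=
  mem_of_map_memDeg (isGrHomDeg_zero_iff.2 hf) hinj (by rwa [add_zero])

/-- The inverse of a homogeneous isomorphism is homogeneous. -/
lemma isGrHom_symm (e : M ≃ₗ[R] N) (he : GrLC.IsGrHom ℳ 𝒩 e.toLinearMap) :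
    GrLC.IsGrHom 𝒩 ℳ e.symm.toLinearMap := by
  intro g n hn
  refine mem_of_map_mem he (f := e.toLinearMap) e.injective ?_
  change e (e.symm n) ∈ 𝒩 g
  rwa [LinearEquiv.apply_symm_apply]

lemma isGrHomDeg_symm (e : M ≃ₗ[R] N) {d : ι} (he : GrLC.IsGrHomDeg ℳ 𝒩 e.toLinearMap d) :
    GrLC.IsGrHomDeg 𝒩 ℳ e.symm.toLinearMap (-d) := by
  intro g n hn
  refine mem_of_map_memDeg he (f := e.toLinearMap) e.injective ?_
  change e (e.symm n) ∈ 𝒩 (g + -d + d)
  rw [LinearEquiv.apply_symm_apply, neg_add_cancel_right]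
  exact hn

/-- A homogeneous lift of a homogeneous element along a homogeneous surjection. -/
lemma exists_lift {f : M →ₗ[R] N} (hf : GrLC.IsGrHom ℳ 𝒩 f) {i : ι} {y : N} (hy : y ∈ 𝒩 i)
    (h : y ∈ LinearMap.range f) : ∃ x ∈ ℳ i, f x = y := by
  obtain ⟨x, rfl⟩ := h
  exact ⟨cmp ℳ i x, cmp_mem ℳ i x, by rw [← cmp_map hf i x, cmp_same 𝒩 hy]⟩

end Hom

/-! ## Composition of homogeneous maps (no decomposition needed) -/

section HomBasic

variable {R : Type u} [CommRing R]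
variable {M : Type u} [AddCommGroup M] [Module R M] {τ : Type u} [SetLike τ M] {ℳ : ι → τ}
variable {N : Type u} [AddCommGroup N] [Module R N] {τ' : Type u} [SetLike τ' N] {𝒩 : ι → τ'}
variable {P : Type u} [AddCommGroup P] [Module R P] {τ'' : Type u} [SetLike τ'' P] {𝒬 : ι → τ''}

omit [AddCommGroup ι] [DecidableEq ι] in
lemma isGrHom_comp {g : N →ₗ[R] P} (hg : GrLC.IsGrHom 𝒩 𝒬 g) {f : M →ₗ[R] N}
    (hf : GrLC.IsGrHom ℳ 𝒩 f) : GrLC.IsGrHom ℳ 𝒬 (g ∘ₗ f) :=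
  fun i m hm => hg i _ (hf i m hm)

omit [AddCommGroup ι] [DecidableEq ι] in
lemma isGrHom_id : GrLC.IsGrHom ℳ ℳ (LinearMap.id : M →ₗ[R] M) := fun _ _ hm => hm

omit [DecidableEq ι] in
lemma isGrHomDeg_comp {g : N →ₗ[R] P} {e : ι} (hg : GrLC.IsGrHomDeg 𝒩 𝒬 g e) {f : M →ₗ[R] N}
    {d : ι} (hf : GrLC.IsGrHomDeg ℳ 𝒩 f d) : GrLC.IsGrHomDeg ℳ 𝒬 (g ∘ₗ f) (d + e) :=
  fun i m hm => by
    have := hg _ _ (hf i m hm)
    rwa [add_assoc] at this

omit [AddCommGroup ι] [DecidableEq ι] in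
lemma isGrHom_zero [AddSubgroupClass τ' N] : GrLC.IsGrHom ℳ 𝒩 (0 : M →ₗ[R] N) :=
  fun _ _ _ => zero_mem _

omit [AddCommGroup ι] [DecidableEq ι] in
lemma isGrHom_add [AddSubgroupClass τ' N] {f g : M →ₗ[R] N} (hf : GrLC.IsGrHom ℳ 𝒩 f)
    (hg : GrLC.IsGrHom ℳ 𝒩 g) : GrLC.IsGrHom ℳ 𝒩 (f + g) :=
  fun i m hm => add_mem (hf i m hm) (hg i m hm)

omit [AddCommGroup ι] [DecidableEq ι] in
lemma isGrHom_neg [AddSubgroupClass τ' N] {f : M →ₗ[R] N} (hf : GrLC.IsGrHom ℳ 𝒩 f) :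
    GrLC.IsGrHom ℳ 𝒩 (-f) :=
  fun i m hm => by rw [LinearMap.neg_apply]; exact neg_mem (hf i m hm)

omit [AddCommGroup ι] [DecidableEq ι] in
lemma isGrHom_sub [AddSubgroupClass τ' N] {f g : M →ₗ[R] N} (hf : GrLC.IsGrHom ℳ 𝒩 f)
    (hg : GrLC.IsGrHom ℳ 𝒩 g) : GrLC.IsGrHom ℳ 𝒩 (f - g) := by
  rw [sub_eq_add_neg]; exact isGrHom_add hf (isGrHom_neg hg)

end HomBasic

end K759.Gr
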