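import Groth.Agent.GrLC.K759.Gr

/-!
# Graded submodules, quotients, products, shifts as `GrLC.GMod`
-/

set_option autoImplicit false
set_option linter.unusedSectionVars false
set_option linter.style.haveILetI false
set_option warn.classDefReducibility false
universe u

open DirectSum K759.Gr

namespace K759.GrObj

variable {ι : Type} [AddCommGroup ι] [DecidableEq ι]
variable {R : Type u} [CommRing R] {σ : Type u} [SetLike σ R] [AddSubgroupClass σ R]
  (𝒜 : ι → σ) [GradedRing 𝒜]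
variable {M : Type u} [AddCommGroup M] [Module R M] {τ : Type u} [SetLike τ M]
  [AddSubgroupClass τ M] (ℳ : ι → τ)

/-! ## Submodules -/

section Sub

/-- The pieces of a submodule. -/
def subGr (P : Submodule R M) : ι → AddSubgroup P := fun i =>
  (AddSubgroup.ofClass (ℳ i)).comap P.subtype.toAddMonoidHom

lemma mem_subGr {P : Submodule R M} {i : ι} {x : P} : x ∈ subGr ℳ P i ↔ (x : M) ∈ ℳ i := Iff.rfl

instance subGr_gradedSMul [SetLike.GradedSMul 𝒜 ℳ] (P : Submodule R M) :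
    SetLike.GradedSMul 𝒜 (subGr ℳ P) where
  smul_mem {i j r x} hr hx := by
    rw [mem_subGr] at hx ⊢
    exact smul_mem 𝒜 ℳ hr hx

variable [DirectSum.Decomposition ℳ]

/-- The decomposition of a homogeneous submodule. -/
noncomputable def subDec (P : Submodule R M) (hP : P.IsHomogeneous ℳ) :
    DirectSum.Decomposition (subGr ℳ P) :=
  mkDecomp (subGr ℳ P)
    (fun i => { toFun := fun x => ⟨cmp ℳ i (x : M), hP i x.2⟩
                map_zero' := Subtype.ext (map_zero (cmp ℳ i))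
                map_add' := fun x y => Subtype.ext (map_add (cmp ℳ i) (x : M) (y : M)) })
    (fun i x => cmp_mem ℳ i (x : M))
    (fun x => ⟨supp ℳ (x : M), fun i hi => Subtype.ext (cmp_eq_zero_of_notMem ℳ hi), by
      apply Subtype.ext
      rw [AddSubmonoidClass.coe_finsetSum]
      exact sum_cmp ℳ (x : M)⟩)
    (fun i x hx => Subtype.ext (cmp_same ℳ hx))
    (fun i j x hij hx => Subtype.ext (cmp_ne ℳ hij hx))

/-- A homogeneous submodule as an object of the graded category. -/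
noncomputable abbrev sub [SetLike.GradedSMul 𝒜 ℳ] (P : Submodule R M) (hP : P.IsHomogeneous ℳ) :
    GrLC.GMod.{u} 𝒜 :=
  letI := subDec ℳ P hP
  GrLC.GMod.of 𝒜 P (subGr ℳ P)

lemma isGrHom_subtype (P : Submodule R M) : GrLC.IsGrHom (subGr ℳ P) ℳ P.subtype :=
  fun _ _ hm => hm

end Sub

/-! ## Quotients -/

section Quot

/-- The pieces of a quotient. -/
def quoGr (P : Submodule R M) : ι → AddSubgroup (M ⧸ P) := fun i =>
  (AddSubgroup.ofClass (ℳ i)).map P.mkQ.toAddMonoidHom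

lemma mem_quoGr {P : Submodule R M} {i : ι} {x : M ⧸ P} :
    x ∈ quoGr ℳ P i ↔ ∃ m ∈ ℳ i, P.mkQ m = x := Iff.rfl

instance quoGr_gradedSMul [SetLike.GradedSMul 𝒜 ℳ] (P : Submodule R M) :
    SetLike.GradedSMul 𝒜 (quoGr ℳ P) where
  smul_mem {i j r x} hr hx := by
    obtain ⟨m, hm, rfl⟩ := hx
    exact ⟨r • m, smul_mem 𝒜 ℳ hr hm, map_smul P.mkQ r m⟩

lemma isGrHom_mkQ (P : Submodule R M) : GrLC.IsGrHom ℳ (quoGr ℳ P) P.mkQ :=
  fun _ m hm => ⟨m, hm, rfl⟩

variable [DirectSum.Decomposition ℳ]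

/-- The component map on a quotient by a homogeneous submodule. -/
noncomputable def quoCmp (P : Submodule R M) (hP : P.IsHomogeneous ℳ) (i : ι) :
    M ⧸ P →+ M ⧸ P :=
  QuotientAddGroup.map P.toAddSubgroup P.toAddSubgroup (cmp ℳ i) (fun _ hx => hP i hx)

lemma quoCmp_mk (P : Submodule R M) (hP : P.IsHomogeneous ℳ) (i : ι) (m : M) :
    quoCmp ℳ P hP i (P.mkQ m) = P.mkQ (cmp ℳ i m) := rfl

/-- The decomposition of a quotient by a homogeneous submodule. -/
noncomputable def quoDec (P : Submodule R M) (hP : P.IsHomogeneous ℳ) :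
    DirectSum.Decomposition (quoGr ℳ P) :=
  mkDecomp (quoGr ℳ P) (quoCmp ℳ P hP)
    (fun i x => by
      obtain ⟨m, rfl⟩ := P.mkQ_surjective x
      exact ⟨cmp ℳ i m, cmp_mem ℳ i m, rfl⟩)
    (fun x => by
      obtain ⟨m, rfl⟩ := P.mkQ_surjective x
      refine ⟨supp ℳ m, fun i hi => ?_, ?_⟩
      · rw [quoCmp_mk, cmp_eq_zero_of_notMem ℳ hi, map_zero]
      · simp only [quoCmp_mk]
        rw [← map_sum, sum_cmp])
    (fun i x hx => by
      obtain ⟨m, hm, rfl⟩ := hx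
      change quoCmp ℳ P hP i (P.mkQ m) = P.mkQ m
      rw [quoCmp_mk, cmp_same ℳ hm])
    (fun i j x hij hx => by
      obtain ⟨m, hm, rfl⟩ := hx
      change quoCmp ℳ P hP j (P.mkQ m) = 0
      rw [quoCmp_mk, cmp_ne ℳ hij hm, map_zero])

/-- A quotient by a homogeneous submodule as an object of the graded category. -/
noncomputable abbrev quo [SetLike.GradedSMul 𝒜 ℳ] (P : Submodule R M) (hP : P.IsHomogeneous ℳ) :
    GrLC.GMod.{u} 𝒜 :=
  letI := quoDec ℳ P hP
  GrLC.GMod.of 𝒜 (M ⧸ P) (quoGr ℳ P)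

end Quot

/-! ## Products -/

section Prod

variable {N : Type u} [AddCommGroup N] [Module R N] {τ' : Type u} [SetLike τ' N]
  [AddSubgroupClass τ' N] (𝒩 : ι → τ')

/-- The pieces of a product. -/
def prodGr : ι → AddSubgroup (M × N) := fun i =>
  (AddSubgroup.ofClass (ℳ i)).prod (AddSubgroup.ofClass (𝒩 i))

lemma mem_prodGr {i : ι} {x : M × N} : x ∈ prodGr ℳ 𝒩 i ↔ x.1 ∈ ℳ i ∧ x.2 ∈ 𝒩 i := Iff.rfl

instance prodGr_gradedSMul [SetLike.GradedSMul 𝒜 ℳ] [SetLike.GradedSMul 𝒜 𝒩] :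
    SetLike.GradedSMul 𝒜 (prodGr ℳ 𝒩) where
  smul_mem _ _ _ _ hr hx := ⟨smul_mem 𝒜 ℳ hr hx.1, smul_mem 𝒜 𝒩 hr hx.2⟩

lemma isGrHom_inl : GrLC.IsGrHom ℳ (prodGr ℳ 𝒩) (LinearMap.inl R M N) :=
  fun _ _ hm => ⟨hm, zero_mem _⟩

lemma isGrHom_inr : GrLC.IsGrHom 𝒩 (prodGr ℳ 𝒩) (LinearMap.inr R M N) :=
  fun _ _ hm => ⟨zero_mem _, hm⟩

lemma isGrHom_fst : GrLC.IsGrHom (prodGr ℳ 𝒩) ℳ (LinearMap.fst R M N) :=
  fun _ _ hm => hm.1

lemma isGrHom_snd : GrLC.IsGrHom (prodGr ℳ 𝒩) 𝒩 (LinearMap.snd R M N) :=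
  fun _ _ hm => hm.2

variable [DirectSum.Decomposition ℳ] [DirectSum.Decomposition 𝒩]

/-- The decomposition of a product. -/
noncomputable def prodDec : DirectSum.Decomposition (prodGr ℳ 𝒩) :=
  mkDecomp (prodGr ℳ 𝒩) (fun i => (cmp ℳ i).prodMap (cmp 𝒩 i))
    (fun i x => ⟨cmp_mem ℳ i x.1, cmp_mem 𝒩 i x.2⟩)
    (fun x => by
      refine ⟨supp ℳ x.1 ∪ supp 𝒩 x.2, fun i hi => ?_, ?_⟩
      · rw [Finset.mem_union, not_or] at hi
        exact Prod.ext (cmp_eq_zero_of_notMem ℳ hi.1) (cmp_eq_zero_of_notMem 𝒩 hi.2)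
      · refine Prod.ext ?_ ?_
        · rw [Prod.fst_sum]
          exact sum_cmp_of_subset ℳ Finset.subset_union_left
        · rw [Prod.snd_sum]
          exact sum_cmp_of_subset 𝒩 Finset.subset_union_right)
    (fun i x hx => Prod.ext (cmp_same ℳ hx.1) (cmp_same 𝒩 hx.2))
    (fun i j x hij hx => Prod.ext (cmp_ne ℳ hij hx.1) (cmp_ne 𝒩 hij hx.2))

/-- The product as an object of the graded category. -/
noncomputable abbrev prod [SetLike.GradedSMul 𝒜 ℳ] [SetLike.GradedSMul 𝒜 𝒩] :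
    GrLC.GMod.{u} 𝒜 :=
  letI := prodDec (M := M) (N := N) ℳ 𝒩
  GrLC.GMod.of 𝒜 (M × N) (prodGr ℳ 𝒩)

end Prod

/-! ## Shifts -/

section Shift

/-- The shifted family: `(M(d))_i = M_{i+d}`. -/
def shGr (d : ι) : ι → AddSubgroup M := fun i => AddSubgroup.ofClass (ℳ (i + d))

lemma mem_shGr {d i : ι} {x : M} : x ∈ shGr ℳ d i ↔ x ∈ ℳ (i + d) := Iff.rfl

instance shGr_gradedSMul [SetLike.GradedSMul 𝒜 ℳ] (d : ι) :
    SetLike.GradedSMul 𝒜 (shGr ℳ d) where
  smul_mem {i j r x} hr hx := by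
    rw [mem_shGr] at hx ⊢
    rw [vadd_eq_add, add_assoc]
    exact smul_mem 𝒜 ℳ hr hx

variable [DirectSum.Decomposition ℳ]

/-- The decomposition of a shift. -/
noncomputable def shDec (d : ι) : DirectSum.Decomposition (shGr ℳ d) :=
  mkDecomp (shGr ℳ d) (fun i => cmp ℳ (i + d)) (fun i x => cmp_mem ℳ (i + d) x)
    (fun x => by
      refine ⟨(supp ℳ x).image (fun j => j - d), fun i hi => ?_, ?_⟩
      · refine cmp_eq_zero_of_notMem ℳ (fun h => hi ?_)
        exact Finset.mem_image.2 ⟨_, h, add_sub_cancel_right i d⟩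
      · rw [Finset.sum_image (fun a _ b _ h => sub_left_injective h)]
        simp only [sub_add_cancel]
        exact sum_cmp ℳ x)
    (fun i x hx => cmp_same ℳ hx)
    (fun i j x hij hx => cmp_ne ℳ (fun h => hij (add_right_cancel h)) hx)

/-- The shift as an object of the graded category. -/
noncomputable abbrev shift [SetLike.GradedSMul 𝒜 ℳ] (d : ι) :
    GrLC.GMod.{u} 𝒜 :=
  letI := shDec ℳ d
  GrLC.GMod.of 𝒜 M (shGr ℳ d)

end Shift

end K759.GrObj
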