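import Groth.Agent.GrLC.K759.Prime
import Groth.Agent.Localalg.Matlis2

/-!
# The *injective hulls of `R / p`
-/

set_option autoImplicit false
set_option linter.unusedSectionVars false
set_option linter.style.haveILetI false
set_option warn.classDefReducibility false
universe u

open DirectSum K759.Gr K759.GrObj K759.Prime

namespace K759.PrimeHull

variable {ι : Type} [AddCommGroup ι] [DecidableEq ι]
variable {R : Type u} [CommRing R] {σ : Type u} [SetLike σ R] [AddSubgroupClass σ R]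
  {𝒜 : ι → σ} [GradedRing 𝒜]

section Shift

variable {M : Type u} [AddCommGroup M] [Module R M] {τ : Type u} [SetLike τ M]
  [AddSubgroupClass τ M] (ℳ : ι → τ) [DirectSum.Decomposition ℳ]

lemma cmp_shGr (d i : ι) (x : M) :
    letI := shDec ℳ d
    Gr.cmp (shGr ℳ d) i x = Gr.cmp ℳ (i + d) x := by
  letI := shDec ℳ d
  have h : Gr.cmp (shGr ℳ d) i = Gr.cmp ℳ (i + d) := by
    ext x
    conv_lhs => rw [← sum_cmp ℳ x]
    conv_rhs => rw [← sum_cmp ℳ x]
    rw [map_sum, map_sum]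
    refine Finset.sum_congr rfl (fun j _ => ?_)
    have hj : Gr.cmp ℳ j x ∈ shGr ℳ d (j - d) := by
      rw [mem_shGr, sub_add_cancel]; exact cmp_mem ℳ j x
    rw [cmp_of_mem (shGr ℳ d) hj, cmp_cmp]
    congr 1
    rw [sub_eq_iff_eq_add]
  rw [h]

lemma isHomogeneous_shGr_iff (d : ι) (P : Submodule R M) :
    (letI := shDec ℳ d
    P.IsHomogeneous (shGr ℳ d)) ↔ P.IsHomogeneous ℳ := by
  letI := shDec ℳ d
  constructor
  · intro h i x hx
    have := h (i - d) hx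
    change Gr.cmp (shGr ℳ d) (i - d) x ∈ P at this
    rw [cmp_shGr, sub_add_cancel] at this
    exact this
  · intro h i x hx
    change Gr.cmp (shGr ℳ d) i x ∈ P
    rw [cmp_shGr]
    exact h _ hx

end Shift

section

variable {I : Type u} [AddCommGroup I] [Module R I] {ℐ : ι → AddSubgroup I}
  [DirectSum.Decomposition ℐ] [SetLike.GradedSMul 𝒜 ℐ]

/-- A homogeneous submodule which is the image of a *injective module has a homogeneous
complement. -/
lemma exists_isCompl {X : Type u} [AddCommGroup X] [Module R X] {𝒳 : ι → AddSubgroup X}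
    [DirectSum.Decomposition 𝒳] [SetLike.GradedSMul 𝒜 𝒳] (hX : GrLC.IsStarInj 𝒜 𝒳)
    (ψ : X →ₗ[R] I) (hψ : GrLC.IsGrHom 𝒳 ℐ ψ) (hinj : Function.Injective ψ) :
    ∃ Q : Submodule R I, Q.IsHomogeneous ℐ ∧ IsCompl (LinearMap.range ψ) Q := by
  obtain ⟨ρ, hρ, hρψ⟩ := Hull.exists_retraction hX ψ hψ hinj
  have h : ∀ x, ρ (ψ x) = x := LinearMap.congr_fun hρψ
  refine ⟨LinearMap.ker ρ, isHomogeneous_ker hρ, ?_⟩
  rw [isCompl_iff, disjoint_iff, codisjoint_iff]
  constructor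
  · rw [eq_bot_iff]
    rintro _ ⟨⟨x, rfl⟩, hx⟩
    rw [SetLike.mem_coe, LinearMap.mem_ker, h] at hx
    rw [hx, map_zero]; exact Submodule.zero_mem _
  · rw [eq_top_iff]
    intro y _
    have : y = ψ (ρ y) + (y - ψ (ρ y)) := by abel
    rw [this]
    refine Submodule.add_mem_sup ⟨_, rfl⟩ ?_
    rw [LinearMap.mem_ker, map_sub, h, sub_self]

end

section Hull

variable {p : HomogeneousIdeal 𝒜} [p.toIdeal.IsPrime]
variable {E : Type u} [AddCommGroup E] [Module R E] {𝓔 : ι → AddSubgroup E}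
  [DirectSum.Decomposition 𝓔] [SetLike.GradedSMul 𝒜 𝓔]
variable {ℱ : ι → AddSubgroup (R ⧸ p.toIdeal)} {e : (R ⧸ p.toIdeal) →ₗ[R] E}

lemma nontrivial_quot (p : HomogeneousIdeal 𝒜) [p.toIdeal.IsPrime] : Nontrivial (R ⧸ p.toIdeal) :=
  Ideal.Quotient.nontrivial_iff.2 (Ideal.IsPrime.ne_top inferInstance)

omit [DecidableEq ι] in
lemma quot_smul_eq_zero [DecidableEq ι] [GradedRing 𝒜] {p : HomogeneousIdeal 𝒜}
    [p.toIdeal.IsPrime] {r : R} {x : R ⧸ p.toIdeal} (hx : x ≠ 0) (h : r • x = 0) :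
    r ∈ p.toIdeal := by
  obtain ⟨s, rfl⟩ := Ideal.Quotient.mk_surjective x
  rw [Ne, Ideal.Quotient.eq_zero_iff_mem] at hx
  have : Ideal.Quotient.mk p.toIdeal (r * s) = 0 := h
  rw [Ideal.Quotient.eq_zero_iff_mem] at this
  exact (Ideal.IsPrime.mem_or_mem inferInstance this).resolve_right hx

/-- *essential extensions of `R / p` are *indecomposable. -/
theorem isStarIndec (he : GrLC.IsStarEss ℱ 𝓔 e) : GrLC.IsStarIndec R 𝓔 := by
  have := nontrivial_quot p
  refine ⟨he.injective.nontrivial, fun P Q hP hQ hPQ => ?_⟩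
  by_contra hcon
  rw [not_or] at hcon
  obtain ⟨_, ⟨hx, x, rfl⟩, hx0⟩ := (Submodule.ne_bot_iff _).1 (he.essential P hP hcon.1)
  obtain ⟨_, ⟨hy, y, rfl⟩, hy0⟩ := (Submodule.ne_bot_iff _).1 (he.essential Q hQ hcon.2)
  have hx0' : x ≠ 0 := fun h => hx0 (by rw [h, map_zero])
  have hy0' : y ≠ 0 := fun h => hy0 (by rw [h, map_zero])
  obtain ⟨r, rfl⟩ := Ideal.Quotient.mk_surjective x
  obtain ⟨s, rfl⟩ := Ideal.Quotient.mk_surjective y
  have h1 : e (Ideal.Quotient.mk p.toIdeal (s * r)) ∈ P := by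
    have : Ideal.Quotient.mk p.toIdeal (s * r) = s • Ideal.Quotient.mk p.toIdeal r := rfl
    rw [this, map_smul]
    exact P.smul_mem _ hx
  have h2 : e (Ideal.Quotient.mk p.toIdeal (s * r)) ∈ Q := by
    have : Ideal.Quotient.mk p.toIdeal (s * r) = r • Ideal.Quotient.mk p.toIdeal s := by
      rw [mul_comm]; rfl
    rw [this, map_smul]
    exact Q.smul_mem _ hy
  have h3 : e (Ideal.Quotient.mk p.toIdeal (s * r)) ∈ P ⊓ Q := ⟨h1, h2⟩
  rw [hPQ.inf_eq_bot, Submodule.mem_bot, ← map_zero e] at h3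
  have h4 := he.injective h3
  exact hy0' (Ideal.Quotient.eq_zero_iff_mem.2 (by
    have : s • Ideal.Quotient.mk p.toIdeal r = 0 := h4
    exact quot_smul_eq_zero hx0' this))

/-- Homogeneous elements outside `p` act bijectively on the *injective hull of `R / p`. -/
theorem smul_bijective (he : GrLC.IsStarInjHull 𝒜 ℱ 𝓔 e) {g : ι} {r : R} (hr : r ∈ 𝒜 g)
    (hrp : r ∉ p.toIdeal) : Function.Bijective (fun x : E => r • x) := by
  have hnt := (isStarIndec he.toIsStarEss).1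
  let μ : E →ₗ[R] E := LinearMap.lsmul R E r
  have hμdeg : GrLC.IsGrHomDeg 𝓔 𝓔 μ g := fun i m hm => by
    rw [add_comm]; exact smul_mem 𝒜 𝓔 hr hm
  have hμinj : Function.Injective μ := by
    refine Ess.injective_of_comp he.toIsStarEss (isHomogeneous_kerDeg hμdeg) ?_
    rw [← LinearMap.ker_eq_bot, eq_bot_iff]
    intro x hx
    rw [LinearMap.mem_ker] at hx
    have h1 : r • e x = 0 := hx
    rw [← map_smul, ← map_zero e] at h1
    by_contra hx0
    exact hrp (quot_smul_eq_zero hx0 (he.injective h1))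
  letI := shDec 𝓔 g
  have hμ : GrLC.IsGrHom 𝓔 (shGr 𝓔 g) μ := fun i m hm => hμdeg i m hm
  obtain ⟨Q, hQ, hc⟩ := exists_isCompl (ℐ := shGr 𝓔 g) he.starInj μ hμ hμinj
  have h1 : (LinearMap.range μ).IsHomogeneous 𝓔 := isHomogeneous_rangeDeg hμdeg
  have h2 : Q.IsHomogeneous 𝓔 := (isHomogeneous_shGr_iff 𝓔 g Q).1 hQ
  have h3 : Q = ⊥ := by
    refine ((isStarIndec he.toIsStarEss).2 _ _ h1 h2 hc).resolve_left (fun h => ?_)
    obtain ⟨x, hx⟩ := exists_ne (0 : E)
    have : μ x ∈ LinearMap.range μ := ⟨x, rfl⟩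
    rw [h, Submodule.mem_bot, ← map_zero μ] at this
    exact hx (hμinj this)
  have h4 : LinearMap.range μ = ⊤ := by
    have := hc.sup_eq_top
    rwa [h3, sup_bot_eq] at this
  exact ⟨hμinj, LinearMap.range_eq_top.1 h4⟩

/-- The hull of `R / p` is `p`-torsion. -/
theorem gam_eq_top [IsNoetherianRing R] (he : GrLC.IsStarInjHull 𝒜 (GrLC.quotGr 𝒜 p) 𝓔 e) :
    GrLC.gam p.toIdeal E = ⊤ := by
  letI := quotDec p
  obtain ⟨I, _, _, f, hf⟩ := Groth.Agent.Localalg.InjHull.exists_injective_hull R (R ⧸ p.toIdeal)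
  have hI := Groth.Agent.Localalg.Matlis.isPowerTorsion_of_isInjectiveHull hf p.toIdeal
    (fun x => ⟨1, fun a ha => by
      rw [pow_one] at ha
      obtain ⟨s, rfl⟩ := Ideal.Quotient.mk_surjective x
      change Ideal.Quotient.mk p.toIdeal (a * s) = 0
      rw [Ideal.Quotient.eq_zero_iff_mem]
      exact Ideal.mul_mem_right _ _ ha⟩)
  have := hf.isInjective
  obtain ⟨j, hj⟩ := Module.Injective.out e he.injective f
  have hess := Ess.isEssentialInj (𝒜 := 𝒜) he.toIsStarEss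
  have hjinj := Groth.Agent.Localalg.InjHull.injective_of_comp hess (g := j)
    (by rw [show j ∘ₗ e = f from LinearMap.ext hj]; exact hf.injective)
  rw [eq_top_iff]
  intro x _
  obtain ⟨n, hn⟩ := hI (j x)
  exact ⟨n, fun a ha => hjinj (by rw [map_smul, hn a ha, map_zero])⟩

end Hull

/-- The annihilator of a nonzero element of (an injective image of) `R / p` is `p`. -/
lemma annihilator_of_mem {p : HomogeneousIdeal 𝒜} [p.toIdeal.IsPrime] {E : Type u}
    [AddCommGroup E] [Module R E] {e : (R ⧸ p.toIdeal) →ₗ[R] E} (he : Function.Injective e)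
    {x : R ⧸ p.toIdeal} (hx : x ≠ 0) (r : R) : r • e x = 0 ↔ r ∈ p.toIdeal := by
  constructor
  · intro h
    rw [← map_smul, ← map_zero e] at h
    exact quot_smul_eq_zero hx (he h)
  · intro h
    obtain ⟨s, rfl⟩ := Ideal.Quotient.mk_surjective x
    rw [← map_smul]
    have : r • Ideal.Quotient.mk p.toIdeal s = 0 := by
      change Ideal.Quotient.mk p.toIdeal (r * s) = 0
      rw [Ideal.Quotient.eq_zero_iff_mem]
      exact Ideal.mul_mem_right _ _ h
    rw [this, map_zero]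

theorem eq_of_equiv {p q : HomogeneousIdeal 𝒜} [p.toIdeal.IsPrime] [q.toIdeal.IsPrime]
    {E F : Type u} [AddCommGroup E] [Module R E] [AddCommGroup F] [Module R F]
    {e : (R ⧸ p.toIdeal) →ₗ[R] E} (he : Function.Injective e)
    {f : (R ⧸ q.toIdeal) →ₗ[R] F} (hf : InjHull.IsEssentialInj f)
    (φ : E →ₗ[R] F) (hφ : Function.Injective φ) : p = q := by
  have := nontrivial_quot p
  obtain ⟨x, hx⟩ := exists_ne (0 : R ⧸ p.toIdeal)
  have hx' : φ (e x) ≠ 0 := by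
    intro h
    rw [← map_zero φ] at h
    have := hφ h
    rw [← map_zero e] at this
    exact hx (he this)
  obtain ⟨r, hr0, y, hy⟩ := (Groth.Agent.Localalg.InjHull.isEssentialInj_iff.1 hf).2 _ hx'
  have hy0 : y ≠ 0 := by
    rintro rfl
    rw [map_zero] at hy
    exact hr0 hy.symm
  have hrx : r • x ≠ 0 := by
    intro h
    rw [← map_smul, ← map_smul, h, map_zero, map_zero] at hr0
    exact hr0 rfl
  have hφe : Function.Injective (φ ∘ₗ e) := hφ.comp he
  apply HomogeneousIdeal.toIdeal_injective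
  ext s
  rw [← annihilator_of_mem hφe hrx, ← annihilator_of_mem hf.injective hy0, hy]
  rw [LinearMap.comp_apply, map_smul, map_smul]

section Summand

variable {I : Type u} [AddCommGroup I] [Module R I] {ℐ : ι → AddSubgroup I}
  [DirectSum.Decomposition ℐ] [SetLike.GradedSMul 𝒜 ℐ]

lemma shift_family_eq (q : HomogeneousIdeal 𝒜) (g₀ : ι) :
    (fun j : ι => GrLC.quotGr 𝒜 q (j - g₀)) = shGr (GrLC.quotGr 𝒜 q) (-g₀) := by
  funext j
  rw [sub_eq_add_neg]
  rfl

/-- A homogeneous element with annihilator `q` gives a homogeneous embedding of a shift of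
`R / q`. -/
lemma exists_embedding {q : HomogeneousIdeal 𝒜} {g₀ : ι} {m : I} (hm : m ∈ ℐ g₀)
    (hann : (Submodule.span R {m}).annihilator = q.toIdeal) :
    ∃ μ : (R ⧸ q.toIdeal) →ₗ[R] I, Function.Injective μ ∧
      GrLC.IsGrHom (fun j : ι => GrLC.quotGr 𝒜 q (j - g₀)) ℐ μ ∧ μ 1 = m := by
  have hmem : ∀ r : R, r • m = 0 ↔ r ∈ q.toIdeal := by
    intro r
    rw [← hann, Submodule.mem_annihilator_span_singleton]
  let μ : (R ⧸ q.toIdeal) →ₗ[R] I := Submodule.liftQ (q.toIdeal : Submodule R R)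
    (LinearMap.toSpanSingleton R I m) (fun r hr => (hmem r).2 hr)
  have hμ : ∀ r : R, μ (Ideal.Quotient.mk q.toIdeal r) = r • m := fun r => rfl
  refine ⟨μ, ?_, ?_, ?_⟩
  · rw [injective_iff_map_eq_zero]
    intro x hx
    obtain ⟨r, rfl⟩ := Ideal.Quotient.mk_surjective x
    rw [hμ, hmem] at hx
    exact Ideal.Quotient.eq_zero_iff_mem.2 hx
  · rintro j _ ⟨r, hr, rfl⟩
    change μ (Ideal.Quotient.mk q.toIdeal r) ∈ ℐ j
    rw [hμ]
    have := smul_mem 𝒜 ℐ hr hm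
    rwa [sub_add_cancel] at this
  · have := hμ 1
    rwa [map_one, one_smul] at this

/-- Splitting off `*E(R/q)(-g₀)`. -/
theorem exists_summand (hI : GrLC.IsStarInj 𝒜 ℐ) (q : HomogeneousIdeal 𝒜)
    (g₀ : ι) (m : I) (hm : m ∈ ℐ g₀)
    (hann : (Submodule.span R {m}).annihilator = q.toIdeal) :
    ∃ (X : GrLC.GMod.{u} 𝒜) (f : (R ⧸ q.toIdeal) →ₗ[R] X.carrier) (ψ : X.carrier →ₗ[R] I)
      (Q : Submodule R I),
      GrLC.IsStarInjHull 𝒜 (fun j : ι => GrLC.quotGr 𝒜 q (j - g₀)) X.gr f ∧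
        Function.Injective ψ ∧ GrLC.IsGrHom X.gr ℐ ψ ∧ ψ (f 1) = m ∧ Q.IsHomogeneous ℐ ∧
        IsCompl (LinearMap.range ψ) Q := by
  obtain ⟨μ, hμinj, hμ, hμ1⟩ := exists_embedding hm hann
  rw [shift_family_eq] at hμ ⊢
  letI := quotDec q
  letI := shDec (GrLC.quotGr 𝒜 q) (-g₀)
  obtain ⟨X, f, hf⟩ := Exist.exists_hull 𝒜 (shGr (GrLC.quotGr 𝒜 q) (-g₀))
  obtain ⟨ψ, hψ, hψf⟩ := Hull.extend hI f hf.grHom hf.injective μ hμ
  have hψinj : Function.Injective ψ := Ess.injective_of_comp hf.toIsStarEss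
    (isHomogeneous_ker hψ) (by rw [hψf]; exact hμinj)
  obtain ⟨Q, hQ, hc⟩ := exists_isCompl hf.starInj ψ hψ hψinj
  exact ⟨X, f, ψ, Q, hf, hψinj, hψ, by rw [← hμ1, ← hψf]; rfl, hQ, hc⟩

/-- A *indecomposable *injective module is a shift of `*E(R/q)`. -/
theorem exists_of_isStarIndec [IsNoetherianRing R] [Module.Free ℤ ι] [Module.Finite ℤ ι]
    (hI : GrLC.IsStarInj 𝒜 ℐ) (hind : GrLC.IsStarIndec R ℐ) :
    ∃ (q : HomogeneousIdeal 𝒜) (g₀ : ι) (f : (R ⧸ q.toIdeal) →ₗ[R] I), q.toIdeal.IsPrime ∧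
      GrLC.IsStarInjHull 𝒜 (fun j : ι => GrLC.quotGr 𝒜 q (j - g₀)) ℐ f := by
  have := hind.1
  obtain ⟨q, g₀, m, hq, hm, hm0, hann⟩ := exists_annihilator_isPrime (𝒜 := 𝒜) ℐ
  obtain ⟨X, f, ψ, Q, hf, hψinj, hψ, hψ1, hQ, hc⟩ := exists_summand hI q g₀ m hm hann
  have hrange : (LinearMap.range ψ).IsHomogeneous ℐ := isHomogeneous_range hψ
  have hQ0 : Q = ⊥ := by
    refine (hind.2 _ _ hrange hQ hc).resolve_left (fun h => ?_)
    have : m ∈ LinearMap.range ψ := ⟨_, hψ1⟩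
    rw [h] at this
    exact hm0 this
  have hsurj : LinearMap.range ψ = ⊤ := by
    have := hc.sup_eq_top
    rwa [hQ0, sup_bot_eq] at this
  refine ⟨q, g₀, ψ ∘ₗ f, hq, ?_⟩
  refine { injective := hψinj.comp hf.injective, grHom := isGrHom_comp hψ hf.grHom,
           essential := fun P hP hP0 => ?_, starInj := hI }
  have h1 : (P.comap ψ).IsHomogeneous X.gr := isHomogeneous_comap hψ hP
  have h2 : P.comap ψ ≠ ⊥ := by
    obtain ⟨y, hy, hy0⟩ := (Submodule.ne_bot_iff _).1 hP0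
    obtain ⟨x, rfl⟩ := (LinearMap.range_eq_top.1 hsurj) y
    exact (Submodule.ne_bot_iff _).2 ⟨x, hy, fun h' => hy0 (by rw [h', map_zero])⟩
  obtain ⟨_, ⟨hx, z, rfl⟩, hx0⟩ := (Submodule.ne_bot_iff _).1 (hf.essential _ h1 h2)
  refine (Submodule.ne_bot_iff _).2 ⟨ψ (f z), ⟨hx, z, rfl⟩, fun h => hx0 ?_⟩
  rw [← map_zero ψ] at h
  exact hψinj h

end Summand

end K759.PrimeHull
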