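import Groth.Agent.GrLC.K759.Gr
import Mathlib.RingTheory.Noetherian.Basic
import Mathlib.RingTheory.Finiteness.Basic

/-!
# Pieces of Noetherian graded modules are Noetherian over the degree zero subring
-/

set_option autoImplicit false
set_option linter.unusedSectionVars false
set_option linter.style.haveILetI false
universe u

open DirectSum K759.Gr

namespace K759.Piece

variable {ι : Type} [AddCommGroup ι] [DecidableEq ι]
variable {R : Type u} [CommRing R] {σ : Type u} [SetLike σ R] [AddSubgroupClass σ R]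
  (𝒜 : ι → σ) [GradedRing 𝒜]
variable {M : Type u} [AddCommGroup M] [Module R M] {τ : Type u} [SetLike τ M]
  [AddSubgroupClass τ M] (ℳ : ι → τ) [DirectSum.Decomposition ℳ] [SetLike.GradedSMul 𝒜 ℳ]

lemma mem_comp {g : ι} {x : M} : x ∈ GrLC.comp 𝒜 ℳ g ↔ x ∈ ℳ g := Iff.rfl

lemma mem_deg0 {r : R} : r ∈ GrLC.deg0 𝒜 ↔ r ∈ 𝒜 0 := Iff.rfl

/-- The projection on a piece, linear over the degree zero subring. -/
noncomputable def proj (g : ι) : M →ₗ[GrLC.deg0 𝒜] GrLC.comp 𝒜 ℳ g where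
  toFun x := ⟨Gr.cmp ℳ g x, cmp_mem ℳ g x⟩
  map_add' x y := Subtype.ext (map_add (Gr.cmp ℳ g) x y)
  map_smul' r x := by
    apply Subtype.ext
    change Gr.cmp ℳ g ((r : R) • x) = (r : R) • Gr.cmp ℳ g x
    rw [cmp_smul' 𝒜 ℳ r.2, sub_zero]

lemma proj_coe (g : ι) (x : GrLC.comp 𝒜 ℳ g) : proj 𝒜 ℳ g (x : M) = x :=
  Subtype.ext (cmp_same ℳ x.2)

lemma coe_proj (g : ι) (x : M) : (proj 𝒜 ℳ g x : M) = Gr.cmp ℳ g x := rfl

/-- The `R`-span of a set of elements of degree `g` contains in degree `g` only the `R_0`-span. -/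
lemma mem_of_mem_span (g : ι) (N : Submodule (GrLC.deg0 𝒜) (GrLC.comp 𝒜 ℳ g)) {x : M}
    (hx : x ∈ Submodule.span R ((fun y : GrLC.comp 𝒜 ℳ g => (y : M)) '' (N : Set _))) :
    proj 𝒜 ℳ g x ∈ N := by
  induction hx using Submodule.closure_induction with
  | zero => rw [map_zero]; exact N.zero_mem
  | add x y _ _ hx hy => rw [map_add]; exact N.add_mem hx hy
  | smul_mem r x hx =>
    obtain ⟨y, hy, rfl⟩ := hx
    have h : proj 𝒜 ℳ g (r • (y : M)) = (⟨Gr.cmp 𝒜 0 r, cmp_mem 𝒜 0 r⟩ : GrLC.deg0 𝒜) • y := by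
      apply Subtype.ext
      change Gr.cmp ℳ g (r • (y : M)) = Gr.cmp 𝒜 0 r • (y : M)
      conv_lhs => rw [← sum_cmp 𝒜 r, Finset.sum_smul, map_sum]
      have h3 : ∀ j, Gr.cmp ℳ g (Gr.cmp 𝒜 j r • (y : M)) =
          if j = 0 then Gr.cmp 𝒜 j r • (y : M) else 0 := by
        intro j
        rw [cmp_of_mem ℳ (smul_mem 𝒜 ℳ (cmp_mem 𝒜 j r) y.2)]
        congr 1
        rw [add_eq_right]
      simp only [h3]
      rw [Finset.sum_ite_eq']
      split_ifs with h
      · rfl
      · rw [cmp_eq_zero_of_notMem 𝒜 h, zero_smul]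
    rw [h]
    exact N.smul_mem _ hy

/-- Pieces of a Noetherian graded module are Noetherian over the degree zero subring. -/
theorem isNoetherian_comp [IsNoetherian R M] (g : ι) :
    IsNoetherian (GrLC.deg0 𝒜) (GrLC.comp 𝒜 ℳ g) := by
  have hwf : WellFoundedGT (Submodule R M) := isNoetherian_iff'.1 inferInstance
  rw [isNoetherian_iff']
  let F : Submodule (GrLC.deg0 𝒜) (GrLC.comp 𝒜 ℳ g) → Submodule R M := fun N =>
    Submodule.span R ((fun y : GrLC.comp 𝒜 ℳ g => (y : M)) '' (N : Set _))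
  have hF : StrictMono F := by
    intro N N' h
    refine lt_of_le_of_ne (Submodule.span_mono (Set.image_mono h.le)) (fun heq => ?_)
    apply h.not_ge
    intro y hy
    have : (y : M) ∈ F N := heq ▸ Submodule.subset_span ⟨y, hy, rfl⟩
    have := mem_of_mem_span 𝒜 ℳ g N this
    rwa [proj_coe] at this
  exact hF.wellFoundedGT

/-- The degree zero subring of a Noetherian graded ring is Noetherian. -/
theorem isNoetherianRing_deg0 [IsNoetherianRing R] : IsNoetherianRing (GrLC.deg0 𝒜) := by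
  have h : IsNoetherian (GrLC.deg0 𝒜) (GrLC.comp 𝒜 𝒜 0) := isNoetherian_comp 𝒜 𝒜 0
  let e : (GrLC.comp 𝒜 𝒜 0) ≃ₗ[GrLC.deg0 𝒜] GrLC.deg0 𝒜 :=
    { toFun := fun x => ⟨(x : R), x.2⟩
      invFun := fun x => ⟨(x : R), x.2⟩
      map_add' := fun _ _ => rfl
      map_smul' := fun _ _ => rfl
      left_inv := fun _ => rfl
      right_inv := fun _ => rfl }
  exact isNoetherian_of_linearEquiv e

theorem finite_comp [IsNoetherianRing R] [Module.Finite R M] (g : ι) :
    Module.Finite (GrLC.deg0 𝒜) (GrLC.comp 𝒜 ℳ g) := by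
  have : IsNoetherian R M := isNoetherian_of_isNoetherianRing_of_finite R M
  have := isNoetherian_comp 𝒜 ℳ g
  infer_instance

end K759.Piece
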