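import Groth.Agent.GrLC.K759.Exist
import Groth.Agent.GrLC.K759.Hgr
import Mathlib.RingTheory.GradedAlgebra.Radical
import Mathlib.LinearAlgebra.FreeModule.Finite.Basic
import Mathlib.Algebra.Order.Group.PiLex
import Mathlib.Order.PiLex

/-!
# Graded primes, graded associated primes, the modules `R / p`
-/

set_option autoImplicit false
set_option linter.unusedSectionVars false
set_option linter.style.haveILetI false
set_option warn.classDefReducibility false
universe u

open DirectSum K759.Gr K759.GrObj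

namespace K759.Prime

/-! ## A compatible linear order on a finitely generated free abelian group -/

/-- A finitely generated free abelian group has a compatible linear order. -/
theorem exists_linearOrder (ι : Type) [AddCommGroup ι] [Module.Free ℤ ι]
    [Module.Finite ℤ ι] : ∃ L : LinearOrder ι,
      @IsOrderedCancelAddMonoid ι _ (L.toPartialOrder.toPreorder) := by
  classical
  let b := Module.finBasis ℤ ι
  let f : ι → Lex (Fin (Module.finrank ℤ ι) → ℤ) := fun x => toLex (b.equivFun x)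
  have hf : Function.Injective f := fun x y h => b.equivFun.injective (toLex.injective h)
  let L : LinearOrder ι := LinearOrder.lift' f hf
  refine ⟨L, ?_⟩
  letI := L
  exact Function.Injective.isOrderedCancelAddMonoid f (fun x y => by
    change toLex (b.equivFun (x + y)) = _
    rw [map_add]; rfl) Iff.rfl

section Ring

variable {ι : Type} [AddCommGroup ι] [DecidableEq ι]
variable {R : Type u} [CommRing R] {σ : Type u} [SetLike σ R] [AddSubgroupClass σ R]
  {𝒜 : ι → σ} [GradedRing 𝒜]

/-- Primality of homogeneous ideals can be tested on homogeneous elements. -/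
theorem isPrime_of_homogeneous [Module.Free ℤ ι] [Module.Finite ℤ ι] {I : Ideal R}
    (hI : I.IsHomogeneous 𝒜) (hne : I ≠ ⊤)
    (h : ∀ {i j : ι} {x y : R}, x ∈ 𝒜 i → y ∈ 𝒜 j → x * y ∈ I → x ∈ I ∨ y ∈ I) :
    I.IsPrime := by
  rename_i _ inst _ _ _ _ _ _
  obtain ⟨L, hO⟩ := exists_linearOrder ι
  obtain rfl : inst = L.toDecidableEq := Subsingleton.elim _ _
  letI := L
  exact hI.isPrime_of_homogeneous_mem_or_mem hne (fun hx hy hxy => by
    obtain ⟨i, hi⟩ := hx
    obtain ⟨j, hj⟩ := hy
    exact h hi hj hxy)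

/-- The graded core of a prime ideal is prime. -/
theorem isPrime_homogeneousCore [Module.Free ℤ ι] [Module.Finite ℤ ι] {I : Ideal R}
    (hI : I.IsPrime) : (I.homogeneousCore 𝒜).toIdeal.IsPrime := by
  rename_i _ inst _ _ _ _ _ _
  obtain ⟨L, hO⟩ := exists_linearOrder ι
  obtain rfl : inst = L.toDecidableEq := Subsingleton.elim _ _
  letI := L
  exact hI.homogeneousCore

/-- The annihilator of a homogeneous element is a homogeneous ideal. -/
lemma isHomogeneous_annihilator {M : Type u} [AddCommGroup M] [Module R M] {τ : Type u}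
    [SetLike τ M] [AddSubgroupClass τ M] (ℳ : ι → τ) [DirectSum.Decomposition ℳ]
    [SetLike.GradedSMul 𝒜 ℳ] {g : ι} {m : M} (hm : m ∈ ℳ g) :
    ((Submodule.span R {m}).annihilator).IsHomogeneous 𝒜 := by
  intro i r hr
  rw [Submodule.mem_annihilator_span_singleton] at hr ⊢
  change Gr.cmp 𝒜 i r • m = 0
  have h2 : Gr.cmp ℳ (i + g) (r • m) = Gr.cmp 𝒜 i r • m := by
    conv_lhs => rw [← sum_cmp 𝒜 r, Finset.sum_smul, map_sum]
    have h3 : ∀ j, Gr.cmp ℳ (i + g) (Gr.cmp 𝒜 j r • m) =
        if j = i then Gr.cmp 𝒜 j r • m else 0 := by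
      intro j
      rw [cmp_of_mem ℳ (smul_mem 𝒜 ℳ (cmp_mem 𝒜 j r) hm)]
      congr 1
      rw [add_left_inj]
    simp only [h3]
    rw [Finset.sum_ite_eq']
    split_ifs with h
    · rfl
    · rw [cmp_eq_zero_of_notMem 𝒜 h, zero_smul]
  rw [← h2, hr, map_zero]

/-- A nonzero graded module over a Noetherian graded ring has a homogeneous element whose
annihilator is a (homogeneous) prime. -/
theorem exists_annihilator_isPrime [IsNoetherianRing R] [Module.Free ℤ ι] [Module.Finite ℤ ι]
    {M : Type u} [AddCommGroup M] [Module R M] {τ : Type u}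
    [SetLike τ M] [AddSubgroupClass τ M] (ℳ : ι → τ) [DirectSum.Decomposition ℳ]
    [SetLike.GradedSMul 𝒜 ℳ] [Nontrivial M] :
    ∃ (q : HomogeneousIdeal 𝒜) (g : ι) (m : M), q.toIdeal.IsPrime ∧ m ∈ ℳ g ∧ m ≠ 0 ∧
      (Submodule.span R {m}).annihilator = q.toIdeal := by
  let S : Set (Ideal R) := {I | ∃ (g : ι) (m : M), m ∈ ℳ g ∧ m ≠ 0 ∧
    (Submodule.span R {m}).annihilator = I}
  have hS : S.Nonempty := by
    obtain ⟨x, hx⟩ := exists_ne (0 : M)
    obtain ⟨i, hi⟩ := exists_cmp_ne_zero ℳ hx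
    exact ⟨_, i, _, cmp_mem ℳ i x, hi, rfl⟩
  obtain ⟨I, ⟨g, m, hm, hm0, hI⟩, hmax⟩ := set_has_maximal_iff_noetherian.2
    (inferInstance : IsNoetherian R R) S hS
  have hIh : I.IsHomogeneous 𝒜 := hI ▸ isHomogeneous_annihilator ℳ hm
  suffices hprime : Ideal.IsPrime I from ⟨⟨I, hIh⟩, g, m, hprime, hm, hm0, hI⟩
  refine isPrime_of_homogeneous hIh ?_ ?_
  · intro h
    have : (1 : R) ∈ I := h ▸ Submodule.mem_top
    rw [← hI, Submodule.mem_annihilator_span_singleton, one_smul] at this
    exact hm0 this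
  · intro i j x y hx hy hxy
    by_contra hcon
    rw [not_or] at hcon
    obtain ⟨hxI, hyI⟩ := hcon
    have hy0 : y • m ≠ 0 := fun h => hyI (by
      rw [← hI, Submodule.mem_annihilator_span_singleton]; exact h)
    refine hmax (Submodule.span R {y • m}).annihilator ⟨j + g, y • m,
      smul_mem 𝒜 ℳ hy hm, hy0, rfl⟩ (lt_of_le_of_ne ?_ ?_)
    · intro r hr
      rw [← hI, Submodule.mem_annihilator_span_singleton] at hr
      rw [Submodule.mem_annihilator_span_singleton, smul_comm, hr, smul_zero]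
    · intro h
      apply hxI
      rw [h, Submodule.mem_annihilator_span_singleton, ← mul_smul]
      rw [← hI, Submodule.mem_annihilator_span_singleton] at hxy
      exact hxy

end Ring

/-! ## The family `quotGr` -/

section QuotGr

variable {ι : Type} [AddCommGroup ι] [DecidableEq ι]
variable {R : Type u} [CommRing R] {σ : Type u} [SetLike σ R] [AddSubgroupClass σ R]
  {𝒜 : ι → σ} [GradedRing 𝒜]

lemma quotGr_eq (p : HomogeneousIdeal 𝒜) :
    GrLC.quotGr 𝒜 p = quoGr (M := R) 𝒜 (p.toIdeal : Submodule R R) := rfl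

/-- The decomposition of `R / p`. -/
noncomputable def quotDec (p : HomogeneousIdeal 𝒜) : DirectSum.Decomposition (GrLC.quotGr 𝒜 p) :=
  quoDec (M := R) 𝒜 (p.toIdeal : Submodule R R) p.isHomogeneous

instance (p : HomogeneousIdeal 𝒜) : SetLike.GradedSMul 𝒜 (GrLC.quotGr 𝒜 p) :=
  inferInstanceAs (SetLike.GradedSMul 𝒜 (quoGr (M := R) 𝒜 (p.toIdeal : Submodule R R)))

lemma one_mem_quotGr (p : HomogeneousIdeal 𝒜) : (1 : R ⧸ p.toIdeal) ∈ GrLC.quotGr 𝒜 p 0 :=
  ⟨1, SetLike.one_mem_graded 𝒜, rfl⟩

end QuotGr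

end K759.Prime
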